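import Cfsg.Agent.TwoF.DC.TC.Tor
import Cfsg.Agent.TwoF.DC.TC.Iface
import Cfsg.Agent.TwoF.DC.Fin.Main

/-!
# TwoF, defining characteristic, type C (7): the datum `DC` of `Sp_(2m)(k)` and the twist `PC` (helper34)
-/

set_option autoImplicit false
set_option linter.unusedSectionVars false
set_option linter.dupNamespace false

namespace Cfsg.Agent.TwoF.DC.TC

open Finset Matrix Sum Cfsg.Agent.H45.Uni Cfsg.Agent.H45.UniS Cfsg.Agent.H421.UniS

variable {m : ℕ} {k : Type} [Field k]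

theorem ne_zero_of_sq {ε : k} (h : ε * ε = 1) : ε ≠ 0 := fun e => by simp [e] at h

theorem not_rt_three {x : Fin m → ℤ} {a : II m} (h : xv x a = 3) {c d : II m} : x ≠ wv c + wv d := fun e => by
  have h1 := xv_wv_le a c
  have h2 := xv_wv_le a d
  rw [e, xv_add] at h
  omega

theorem cmD (p : ℕ) [CharP k p] : CmD (eC m).rc p (Z (m := m) (k := k)) := by
  intro β b
  have c1 : ∀ {a : PR m}, rv a = rv β + rv b → (eC m).rc.cf a = 1 • (eC m).rc.cf β + 1 • (eC m).rc.cf b := fun h =>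
    (eC m).cf_add_iff.2 (by simpa [eC] using h)
  have c2 : ∀ {a a' : PR m}, rv a = rv β + rv b → (eC m).rc.cf a' = (eC m).rc.cf β + (eC m).rc.cf b → a' = a :=
    fun h h' => rv_inj (((eC m).cf_add_iff'.1 h').trans h.symm)
  rcases tri (k := k) β b with ⟨h1, -, h3⟩ | ⟨a, ε, e, -, -, -, h1, h2⟩ | ⟨a, ε, e, -, -, -, h1, h3, h4, h2⟩ |
    ⟨a, a', ε, e, -, -, s1, s2, h1, h3, h2⟩ | ⟨a, a', ε, e, -, -, s1, s2, h1, h3, h2⟩
  · exact ⟨[], by simp, fun s t => by simpa using h1 s t, fun a ha _ => (h3 a ((eC m).cf_add_iff'.1 ha)).elim⟩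
  · refine ⟨[(a, ε, 1, 1)], by simpa using c1 h1, fun s t => by simpa using h2 s t, fun a0 ha _ => ?_⟩
    rw [c2 h1 ha]
    exact ⟨ε, ne_zero_of_sq e, by simp⟩
  · refine ⟨[(a, 2 * ε, 1, 1)], by simpa using c1 h1, fun s t => by simpa using h2 s t, fun a0 ha hn => ?_⟩
    rw [c2 h1 ha]
    refine ⟨2 * ε, mul_ne_zero (fun h0 => ?_) (ne_zero_of_sq e), by simp⟩
    obtain ⟨-, r, r1, r2, r3⟩ := hn
    have k1 : ∀ n : ℤ, (eC m).E ((eC m).rc.vec (true, b) - n • (eC m).rc.vec (true, β)) = rv b - n • rv β := fun n => by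
      rw [Euc.E_sub, Euc.E_smul, Euc.E_vec, Euc.E_vec]; rfl
    obtain rfl | rfl | h5 : r = 0 ∨ r = 1 ∨ 2 ≤ r := by omega
    · obtain ⟨x, y, h6, h7⟩ := h3
      exact r2 ((isRt_C _).2 ⟨x, y, h6, by rw [k1, ← h7]; simp⟩)
    · exact r3 ((CharP.cast_eq_zero_iff k p 2).1 (by exact_mod_cast h0))
    · obtain ⟨x, y, -, h7⟩ := (isRt_C _).1 (r1 2 h5)
      obtain ⟨z, hz⟩ := h4
      rw [k1] at h7
      exact not_rt_three hz h7
  · have h5 : a' ≠ a := fun e => s2 (e ▸ s1)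
    refine ⟨[(a, ε, 1, 1), (a', 1, 2, 1)], ?_, fun s t => by simpa [mul_assoc] using h2 s t, fun a0 ha _ => ?_⟩
    · simpa using ⟨by simpa using c1 h1, by simpa using (eC m).cf_add_iff (m := 2) (n := 1) |>.2 (by simpa [eC] using h3)⟩
    · rw [c2 h1 ha]
      exact ⟨ε, ne_zero_of_sq e, by simp [h5]⟩
  · have h5 : a' ≠ a := fun e => s2 (e ▸ s1)
    refine ⟨[(a, ε, 1, 1), (a', -1, 1, 2)], ?_, fun s t => by simpa [mul_assoc] using h2 s t, fun a0 ha _ => ?_⟩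
    · simpa using ⟨by simpa using c1 h1, by simpa using (eC m).cf_add_iff (m := 1) (n := 2) |>.2 (by simpa [eC] using h3)⟩
    · rw [c2 h1 ha]
      exact ⟨ε, ne_zero_of_sq e, by simp [h5]⟩

theorem T_x {t : SG m k} (ht : t ∈ TS m k) (i : Fin m) : ∃ u : k, (∀ a, xs i a * t = t * xs i (u * a)) ∧
    ∀ a, t * ys i a = ys i (u * a) * t := by
  obtain ⟨u, rfl⟩ := mem_TS.1 ht
  refine ⟨((rs i u)⁻¹ : kˣ), fun a => ?_, fun a => (sTor u i a).2⟩
  have h := (sTor u i (((rs i u)⁻¹ : kˣ) * a)).1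
  rw [← mul_assoc, ← Units.val_mul, mul_inv_cancel, Units.val_one, one_mul] at h
  exact h.symm

theorem mn_T (i : Fin m) {t : SG m k} (ht : t ∈ TS m k) (g : SG m k) : mn i (g * t).1 = mn i t.1 * mn i g.1 := by
  obtain ⟨u, rfl⟩ := mem_TS.1 ht
  rw [mn_ts]
  exact mn_mul_ts i g.1 u

theorem tp_T {t : SG m k} (ht : t ∈ TS m k) : tp t = t := by
  obtain ⟨u, rfl⟩ := mem_TS.1 ht
  exact tp_ts u

theorem rho_pos (j : Fin m) : 0 < rho m ⬝ᵥ (eC m).rv ((eC m).zi j) := by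
  show 0 < rho m ⬝ᵥ rv (zc j); rw [rho_rv]; exact two_pos

/-- **the datum of `Sp_(2m)(k)`** -/
noncomputable def DC (p m : ℕ) (k : Type) [Field k] [CharP k p] : RDat p (Fin m) (PR m) k (SG m k) where
  x := xs
  y := ys
  z := Z
  zi := zc
  ht := (eC m).ht (rho m)
  T := TS m k
  δ s := ts (dls s)
  hh i c := ts (hs i c)
  τ := tp
  ht_pos := (eC m).ht_pos rho_pos
  x_eq i s := (X_xs i s).symm
  z_add := Z_add
  y_add := ys_add
  δ_mul s t := by rw [dls_mul, H45.UniS.ts_mul]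
  δ_mem s := mem_TS.2 ⟨_, rfl⟩
  hh_mem i c := mem_TS.2 ⟨_, rfl⟩
  δ_z s b a := by
    rw [ts_Z, dls_eq, ch_cch, ← Units.val_pow_eq_pow_val, ← _root_.zpow_natCast, (eC m).ht_cast rho_pos]; rfl
  T_x t ht i := (T_x ht i).elim fun u hu => ⟨u, hu.1⟩
  T_y t ht i := (T_x ht i).elim fun u hu => ⟨u, hu.2⟩
  comm := sComm
  rank := sRank
  gen := eq_top_iff.2 fun g _ => sGen g
  cmt i b s := by
    obtain ⟨l, h1, h2, -⟩ := (cmD (k := k) p).both Z_add (zc i) b s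
    exact ⟨l, h1, fun t => by rw [← X_xs, ← X_xs]; exact h2 t⟩
  τ_mul := H45.UniS.tp_mul
  τ_τ := H45.UniS.tp_tp
  τ_x _ _ := rfl
  τ_T _ := tp_T
  Δ i g := mn i g.1
  wt j := (∑ a : Fin (j.1 + 1), (2 * (m - a.1) - 1) : ℕ)
  N := 6 * m * m
  M := 2 * m * m
  Δ_one i := mn_one i
  Δ_z i b g s := mn_mul_Z i b g s
  Δ_T i _ ht g := mn_T i ht g
  Δ_hh i j c := by rw [mn_ts, chi_hs]; split_ifs <;> rfl
  Δ_δ i s := by rw [mn_ts, chi_dls, _root_.zpow_natCast]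
  Δ_τ i g := mn_transpose i g.1
  pol_z i b g h := (pol_mn i b g h).mono (by have := i.2; nlinarith)
  pol_δ i g h := pol_mn_ds i g h
  R := (eC m).rc
  zi_eq := rfl
  ht_eq := (eC m).ht_eq rho_pos
  hh_mul i c d := by rw [hs_mul, H45.UniS.ts_mul]
  hh_comm i j c d := by rw [← H45.UniS.ts_mul, mul_comm, H45.UniS.ts_mul]
  hh_z i c b a := by rw [ts_Z, hs_eq, ch_cch, wt_true]; rfl
  n_z i b h := n_Z i h
  cm := (cmD p).cm
  nz i b a ha hn := by
    obtain ⟨l, h1, h2, h3⟩ := (cmD (k := k) p).both Z_add (zc i) b 1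
    exact ⟨l, h1, fun t => by rw [← X_xs, ← X_xs]; exact h2 t, h3 one_ne_zero a ha hn⟩

section

variable (p : ℕ) [CharP k p]

theorem DC_R : (DC p m k).R = (eC m).rc := rfl
theorem DC_x : (DC p m k).x = xs := rfl
theorem DC_y : (DC p m k).y = ys := rfl
theorem DC_z : (DC p m k).z = Z := rfl
theorem DC_zi : (DC p m k).zi = zc := rfl
theorem DC_hh (i : Fin m) (c : kˣ) : (DC p m k).hh i c = ts (hs i c) := rfl
theorem DC_τ : (DC p m k).τ = tp := rfl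
theorem DC_Δ (i : Fin m) (g : SG m k) : (DC p m k).Δ i g = mn i g.1 := rfl

end

/-! ### ring homomorphisms -/

section map

variable {K : Type} [Field K]

/-- the entrywise map -/
def mapS (ω : k →+* K) : SG m k →* SG m K := @bcs m k K _ _ ω.toAlgebra

theorem mapS_val (ω : k →+* K) (g : SG m k) (x y : II m) : (mapS ω g).1 x y = ω (g.1 x y) := rfl
theorem mapS_xs (ω : k →+* K) (i : Fin m) (s : k) : mapS ω (xs i s) = xs i (ω s) := @bcs_xs m k K _ _ ω.toAlgebra i s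
theorem mapS_ys (ω : k →+* K) (i : Fin m) (s : k) : mapS ω (ys i s) = ys i (ω s) := @bcs_ys m k K _ _ ω.toAlgebra i s
theorem mapS_inj (ω : k →+* K) : Function.Injective (mapS (m := m) ω) := fun g h e =>
  Subtype.ext (Matrix.ext fun x y => ω.injective (by rw [← mapS_val, ← mapS_val, e]))

theorem map_om (ω : k →+* K) (a b : II m) : ω (om (bv a) b) = om (bv a) b := by
  rw [om_bv, om_bv]
  rcases b with i | i <;> split_ifs <;> simp [sg]

theorem map_bv (ω : k →+* K) (a b : II m) : ω (bv a b) = bv a b := by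
  simp only [bv, Pi.single_apply]
  split_ifs <;> simp

theorem mapS_Z (ω : k →+* K) (b : PR m) (t : k) : mapS ω (Z b t) = Z b (ω t) := by
  refine Subtype.ext (Matrix.ext fun x y => ?_)
  rw [mapS_val, entry, entry, Z, Z]
  by_cases e : b.1.1 = b.1.2
  · simp only [← e, X_long, Pi.add_apply, Pi.smul_apply, smul_eq_mul, map_add, map_mul, map_om, map_bv]
  · simp only [X_short e (Is.self b).ne, Pi.sub_apply, Pi.smul_apply, smul_eq_mul, map_sub, map_mul, map_om, map_bv]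

end map

/-- the untwisted data of a datum with a Frobenius map -/
def tw0 {p : ℕ} {ι Φ G : Type} [Fintype ι] [DecidableEq ι] [Fintype Φ] [DecidableEq Φ] [Group G] (D : RDat p ι Φ k G)
    (f : ℕ) (hf : 0 < f) (Fr : G →* G) (hz : ∀ b t, Fr (D.z b t) = D.z b (t ^ p))
    (hy : ∀ i t, Fr (D.y i t) = D.y i (t ^ p)) : Tws D where
  f := f
  f_pos := hf
  Fr := Fr
  Fr_z := hz
  Fr_y := hy
  Gr := Unit
  gr := 1
  gι := 1
  gΦ := 1
  gι_inj _ _ _ := rfl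
  gr_x _ _ _ := rfl
  gr_y _ _ _ := rfl
  gr_z _ _ := ⟨1, fun t => by rw [Units.val_one, one_mul]; rfl⟩
  cf_gr _ _ _ := rfl
  co_gr _ _ _ := rfl
  C_gr _ _ _ := rfl
  ht_gr _ _ := rfl
  Gr_small := by simp
  σ := 1
  orth i i' h h' := (h' (Equiv.Perm.sameCycle_one.1 h)).elim

theorem Cmb.comb {p : ℕ} {ι Φ G : Type} [Fintype ι] [DecidableEq ι] [Fintype Φ] [DecidableEq Φ] [Group G]
    {D : RDat p ι Φ k G} {ok : (ι → ℕ) → Prop} (h : Cmb D ok) (hex : ∃ l : ι → ℕ, (∀ i, l i < p) ∧ l ≠ 0 ∧ ok l)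
    {f : ℕ} {hf : 0 < f} {Fr : G →* G} {hz : ∀ b t, Fr (D.z b t) = D.z b (t ^ p)}
    {hy : ∀ i t, Fr (D.y i t) = D.y i (t ^ p)} : (tw0 D f hf Fr hz hy).Comb ok where
  ex := hex
  ok_gr _ _ h := h
  faith := h.faith
  ct F h1 h2 _ S h3 h4 h5 h6 := Or.inl (h.ct _ F h1 h2 S h3 h4 h5 h6)
  bg _ h := (h rfl).elim
  ctg _ h := (h rfl).elim
  ctf hp J _ _ L _ _ H r h1 S h2 h3 sl h4 h5 h6 :=
    (h.ctf hp _ J L H r h1 S h2 h3 sl h4 h5 h6).imp_right fun h hσ => Or.inl (h hσ)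
  eight := fun ⟨_, _, h⟩ => (h rfl).elim

/-- the untwisted data of `Sp_(2m)(p ^ f)` -/
noncomputable def PC (p : ℕ) [Fact p.Prime] (m : ℕ) (k : Type) [Field k] [CharP k p] (f : ℕ) (hf : 0 < f) :
    Tws (DC p m k) :=
  tw0 _ f hf (mapS (frobenius k p)) (mapS_Z _) (mapS_ys _)

end Cfsg.Agent.TwoF.DC.TC
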