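import Cfsg.Agent.TwoF.DC.TC.Tri
import Cfsg.Agent.H45.UniS.Bc
import Cfsg.Agent.H421.UniS.Wt

/-!
# TwoF, defining characteristic, type C (6): commutator data, the torus, minors (helper34)
-/

set_option autoImplicit false
set_option linter.unusedSectionVars false

namespace Cfsg.Agent.TwoF.DC.TC

open Finset Matrix Sum Cfsg.Agent.H45.Uni Cfsg.Agent.H45.UniS Cfsg.Agent.H421.UniS

/-! ### commutator data -/

section cmd

variable {ι Φ k G : Type} [Fintype ι] [DecidableEq ι] [DecidableEq Φ] [Field k] [Group G]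

/-- the commutator relations -/
def CmD (R : RC ι Φ) (p : ℕ) (z : Φ → k → G) : Prop :=
  ∀ β b, ∃ l : List (Φ × k × ℕ × ℕ),
    (∀ e ∈ l, 0 < e.2.2.1 ∧ 0 < e.2.2.2 ∧ R.cf e.1 = e.2.2.1 • R.cf β + e.2.2.2 • R.cf b) ∧
    (∀ s t, z β s * z b t = (l.map fun e => z e.1 (e.2.1 * s ^ e.2.2.1 * t ^ e.2.2.2)).prod * z b t * z β s) ∧
    ∀ a, R.cf a = R.cf β + R.cf b → R.NZ p (true, β) (true, b) →
      ∃ c : k, c ≠ 0 ∧ l.filter (fun e => e.1 = a) = [(a, c, 1, 1)]

variable {R : RC ι Φ} {p : ℕ} {z : Φ → k → G} (h : CmD R p z) (hz : ∀ b s t, z b (s + t) = z b s * z b t)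
include h

theorem CmD.cm (b b' : Φ) (s t : k) : z b s * z b' t * (z b s)⁻¹ * (z b' t)⁻¹ ∈
    Subgroup.closure {g | ∃ a u, (∃ m n : ℕ, 0 < m ∧ 0 < n ∧ R.cf a = m • R.cf b + n • R.cf b') ∧ g = z a u} := by
  obtain ⟨l, h1, h2, -⟩ := h b b'
  rw [h2, mul_inv_cancel_right, mul_inv_cancel_right]
  refine Subgroup.list_prod_mem _ fun x hx => ?_
  obtain ⟨e, he, rfl⟩ := List.mem_map.1 hx
  exact Subgroup.subset_closure ⟨e.1, _, ⟨_, _, h1 e he⟩, rfl⟩

include hz in
theorem CmD.both (β b : Φ) (s : k) : ∃ l : List (Φ × k × ℕ), (∀ a ∈ l, 0 < a.2.2) ∧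
    (∀ t, z β (-s) * z b t * z β s = (l.map fun a => z a.1 (a.2.1 * t ^ a.2.2)).prod) ∧
    (s ≠ 0 → ∀ a, R.cf a = R.cf β + R.cf b → R.NZ p (true, β) (true, b) →
      ((l.filter fun e => e.1 = a ∧ e.2.2 = 1).map fun e => e.2.1).sum ≠ 0) := by
  obtain ⟨l, h1, h2, h3⟩ := h β b
  refine ⟨l.map (fun e => (e.1, e.2.1 * (-s) ^ e.2.2.1, e.2.2.2)) ++ [(b, 1, 1)], fun a ha => ?_, fun t => ?_,
    fun hs a ha hn => ?_⟩
  · rcases List.mem_append.1 ha with ha | ha
    · obtain ⟨e, he, rfl⟩ := List.mem_map.1 ha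
      exact (h1 e he).2.1
    · rw [List.mem_singleton.1 ha]; exact one_pos
  · have h0 : z β 0 = 1 := by have := hz β 0 0; rw [add_zero] at this; exact mul_eq_left.1 this.symm
    rw [h2, mul_assoc, ← hz, neg_add_cancel, h0, mul_one, List.map_append, List.prod_append, List.map_map]
    simp only [List.map_cons, List.map_nil, List.prod_cons, List.prod_nil, mul_one, one_mul, pow_one]
    rfl
  · obtain ⟨c, hc, e⟩ := h3 a ha hn
    have h4 : b ≠ a := fun e => R.cf_ne_zero β (by rw [e] at ha; exact (add_eq_right.1 ha.symm))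
    have h5 : ∀ l' : List (Φ × k × ℕ), (l'.filter fun e => e.1 = a ∧ e.2.2 = 1) =
        (l'.filter fun e => e.1 = a).filter fun e => e.2.2 = 1 := fun l' => by
      rw [List.filter_filter]; congr 1; funext e; simp [Bool.and_comm]
    rw [h5, List.filter_append, List.filter_map]
    have h6 : ((fun e : Φ × k × ℕ => decide (e.1 = a)) ∘ fun e : Φ × k × ℕ × ℕ =>
        (e.1, e.2.1 * (-s) ^ e.2.2.1, e.2.2.2)) = fun e => decide (e.1 = a) := rfl
    rw [h6, e]
    simp [h4, hc, hs]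

end cmd

variable {m : ℕ} {k : Type} [Field k]

/-! ### the torus -/

/-- characters of the torus -/
def ch (x : Fin m → ℤ) (t : Fin m → kˣ) : kˣ := ∏ i, t i ^ x i
/-- cocharacters of the torus -/
def cch (y : Fin m → ℤ) (c : kˣ) : Fin m → kˣ := fun i => c ^ y i

theorem ch_add (x y : Fin m → ℤ) (t : Fin m → kˣ) : ch (x + y) t = ch x t * ch y t := by
  simp only [ch, Pi.add_apply, _root_.zpow_add, prod_mul_distrib]

theorem ch_cch (x y : Fin m → ℤ) (c : kˣ) : ch x (cch y c) = c ^ (y ⬝ᵥ x) := by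
  simp only [ch, cch, ← _root_.zpow_mul, dotProduct]
  induction (univ : Finset (Fin m)) using Finset.induction_on with
  | empty => simp
  | insert i A hi ih => rw [prod_insert hi, sum_insert hi, _root_.zpow_add, ih]

theorem tsVec_eq (t : Fin m → kˣ) (a : II m) : tsVec t a = ch (wv a) t := by
  rcases a with i | i
  · rw [ch, prod_eq_single i (fun j _ h => by simp [wv, h]) (by simp)]; simp [wv, tsVec]
  · rw [ch, prod_eq_single i (fun j _ h => by simp [wv, h]) (by simp)]; simp [wv, tsVec]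

theorem ts_Z (t : Fin m → kˣ) (b : PR m) (s : k) : ts t * Z b s = Z b (ch (rv b) t * s) * ts t := by
  rw [Z, ts_X (Is.self b).ne, tsVec_eq, tsVec_eq, rv, ch_add, Units.val_mul, Z]

theorem hs_eq (i : Fin m) (c : kˣ) : hs i c = cch (cv (zc i)) c := funext fun j => by
  have h : cv (zc i) j = cv (zc i) ⬝ᵥ wv (inl j) := by rw [dotProduct_comm, wv_dot]; rfl
  have h1 := ps_swap (nb i)
  have h2 := ps_nb i
  have h3 : ps (nb i).swap = i + 1 := by omega
  rw [hs, cch, h, cv_zc_wv]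
  simp only [ps_eq, h2, h3, ps_inl, ps_inr, Fin.ext_iff]
  have := j.2
  split_ifs <;> first | omega | simp

/-- twice the half sum of the positive coroots -/
def rho (m : ℕ) : Fin m → ℤ := fun i => ((2 * (m - i.1) - 1 : ℕ) : ℤ)

theorem dls_eq (s : kˣ) : (dls s : Fin m → kˣ) = cch (rho m) s := funext fun _ => (_root_.zpow_natCast _ _).symm

theorem rho_rv (j : Fin m) : rho m ⬝ᵥ rv (zc j) = 2 := by
  have := j.2
  rw [dotProduct_comm, rv_zc_dot]
  simp only [rho]
  split_ifs <;> omega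

theorem rho_cv (j : Fin m) : 0 < rho m ⬝ᵥ cv (zc j) := by
  have := j.2
  rw [dotProduct_comm, cv_zc_dot]
  simp only [rho]
  split_ifs <;> omega

/-- the height for a linear functional -/
def _root_.Cfsg.Agent.TwoF.DC.TC.Euc.ht {ι Φ : Type} [Fintype ι] [DecidableEq ι] (X : Euc ι Φ) (r : ι → ℤ) (b : Φ) : ℕ :=
  (r ⬝ᵥ X.rv b).toNat

section ht

variable {ι Φ : Type} [Fintype ι] [DecidableEq ι] [DecidableEq Φ] (X : Euc ι Φ) {r : ι → ℤ}
  (h : ∀ j, 0 < r ⬝ᵥ X.rv (X.zi j))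
include h

theorem Euc.ht_aux (b : Φ) : r ⬝ᵥ X.rv b = ((∑ j, X.rc.cf b j * X.ht r (X.zi j) : ℕ) : ℤ) := by
  rw [← X.E_cf, X.dot_E]
  push_cast
  exact sum_congr rfl fun j _ => by rw [Euc.ht, Int.toNat_of_nonneg (h j).le, mul_comm]; rfl

theorem Euc.ht_eq (b : Φ) : X.ht r b = ∑ j, X.rc.cf b j * X.ht r (X.zi j) := by
  rw [Euc.ht.eq_1 X r b, X.ht_aux h, Int.toNat_natCast]

theorem Euc.ht_cast (b : Φ) : (X.ht r b : ℤ) = r ⬝ᵥ X.rv b := by rw [X.ht_eq h, X.ht_aux h]

theorem Euc.ht_pos (b : Φ) : 0 < X.ht r b := by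
  obtain ⟨j, hj⟩ := X.rc.exists_cf_pos b
  rw [X.ht_eq h]
  refine lt_of_lt_of_le (Nat.mul_pos hj ?_) (single_le_sum (f := fun j => X.rc.cf b j * X.ht r (X.zi j))
    (fun _ _ => Nat.zero_le _) (mem_univ j))
  have := h j
  rw [Euc.ht]; omega

end ht

theorem n_Z (i : Fin m) {b : PR m} (h : b ≠ zc i) : ∃ ε : kˣ, ∀ t : k,
    xs i 1 * ys i (-1) * xs i 1 * Z b t = Z ((eC m).s i b) (ε * t) * (xs i 1 * ys i (-1) * xs i 1) := by
  obtain ⟨ε, hε⟩ := n_X (k := k) i (Is.self b).ne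
  exact ⟨ε, fun t => by rw [Z, hε, Is.Z (b := (eC m).s i b) (mkR_spec (pos_rI h) b)]⟩

theorem sh_s (i : Fin m) {b : PR m} (h : b ≠ zc i) : Sh ((eC m).s i b) ↔ Sh b := by
  rw [Is.sh (b := (eC m).s i b) (mkR_spec (pos_rI h) b), Ne, rI_inj]; rfl

theorem sh_zc (i : Fin m) : Sh (zc i) ↔ i.1 + 1 < m := by rw [Sh, Ne, zc_eq, not_not]

/-! ### minors -/

theorem mn_mul_Z (j : Fin m) (b : PR m) (g : SG m k) (t : k) : mn j (g * Z b t).1 = mn j g.1 := by
  have e : ∀ x l, (g * Z b t).1 x (inl l) = g.1 x (inl l) + (if b.1.2 = inr l then t else 0) * g.1 x b.1.1 := by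
    intro x l
    rw [entry, lin_mul, Z, X_bv_inl, map_add, map_smul, entry, entry]
    rfl
  rw [mn_eq, mn_eq]
  by_cases h : ∃ l : Fin (j.1 + 1), b.1.2 = inr (Fin.castLE j.2 l)
  · obtain ⟨l, hl⟩ := h
    obtain ⟨i, hi⟩ := exists_inl b.lt
    have h1 := b.2.2
    rw [hi, hl, ps_inl, ps_inr, Fin.val_castLE] at h1
    have h2 := l.2
    have h3 := j.2
    have e2 : sm j (g * Z b t).1 = (sm j g.1).updateCol l (fun a => sm j g.1 a l + t • sm j g.1 a ⟨i.1, by omega⟩) := by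
      ext a c
      refine (e _ _).trans ?_
      rw [Matrix.updateCol_apply, hl, hi]
      by_cases hc : c = l
      · rw [if_pos hc, if_pos (by rw [hc]), hc]; rfl
      · rw [if_neg hc, if_neg (fun e => hc (Fin.castLE_injective _ (inr_injective e)).symm), zero_mul, add_zero]; rfl
    rw [e2]
    exact Matrix.det_updateCol_add_smul_self _ (by rw [Ne, Fin.ext_iff]; simp only; omega) _
  · congr 1
    ext a c
    refine (e _ _).trans ?_
    rw [if_neg fun e => h ⟨c, e⟩, zero_mul, add_zero]; rfl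

theorem pol_entry (b : PR m) (g h : SG m k) (x y : II m) : PolLE (id : k → k) 1 fun t => (g * Z b t * h).1 x y := by
  have h0 : ∀ a : k, PolLE (id : k → k) 1 fun t => t * a := fun a =>
    PolLE.mul_const a ⟨Polynomial.X, Polynomial.natDegree_X_le, fun _ => Polynomial.eval_X.symm⟩
  by_cases e : b.1.1 = b.1.2
  · have h1 := (PolLE.const (e := (id : k → k)) (lin g (lin h (bv y)) x) 1).add
      (h0 (om (lin h (bv y)) b.1.1 * lin g (bv b.1.1) x))
    convert h1 using 2 with t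
    rw [entry, lin_mul, lin_mul, Z, ← e, X_long, map_add, map_smul, Pi.add_apply, Pi.smul_apply, smul_eq_mul, mul_assoc]
  · have h1 := (PolLE.const (e := (id : k → k)) (lin g (lin h (bv y)) x) 1).add
      (h0 (-(om (lin h (bv y)) b.1.1 * lin g (bv b.1.2) x) - om (lin h (bv y)) b.1.2 * lin g (bv b.1.1) x))
    convert h1 using 2 with t
    rw [entry, lin_mul, lin_mul, Z, X_short e (Is.self b).ne]
    simp only [map_sub, map_smul, Pi.sub_apply, Pi.smul_apply, smul_eq_mul]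
    ring

theorem pol_mn (j : Fin m) (b : PR m) (g h : SG m k) : PolLE (id : k → k) m fun t => mn j (g * Z b t * h).1 := by
  have h1 := PolLE.det (A := fun t => sm j (g * Z b t * h).1) (e := id) (d := 1) fun x y => pol_entry b g h _ _
  rw [Fintype.card_fin] at h1
  exact h1.mono (by have := j.2; omega)

theorem cs_single (j : Fin m) (g : MM m k) : cs (Pi.single j 1) g = mn j g := by
  rw [cs, prod_eq_single j (fun i _ h => by rw [Pi.single_eq_of_ne h, pow_zero]) (by simp), Pi.single_eq_same, pow_one]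

theorem pol_mn_ds (j : Fin m) (g h : SG m k) : PolLE (fun s : kˣ => (s : k)) (6 * m * m)
    fun s => (s : k) ^ (2 * m * m) * mn j (g * ts (dls s) * h).1 := by
  have h1 := pol_ds (Pi.single j 1) g.1 h.1
  rw [sum_eq_single j (fun i _ h => by rw [Pi.single_eq_of_ne h, zero_mul]) (by simp),
    sum_eq_single j (fun i _ h => by rw [Pi.single_eq_of_ne h, mul_zero, mul_zero]) (by simp), Pi.single_eq_same] at h1
  have h2 : PolLE (fun s : kˣ => (s : k)) (2 * m * m) fun s => (s : k) ^ (2 * m * (m - (j.1 + 1))) :=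
    ⟨Polynomial.X ^ (2 * m * (m - (j.1 + 1))), by rw [Polynomial.natDegree_X_pow]; gcongr; omega, fun s => by simp⟩
  have h3 : 1 * ((j.1 + 1) * (4 * m)) ≤ 4 * m * m := by
    have := j.2
    rw [one_mul, mul_comm]; gcongr; omega
  convert (h2.mul h1).mono (show _ ≤ 6 * m * m by nlinarith) using 2 with s
  rw [← mul_assoc, ← pow_add, cs_single, mul_one, ← mul_add, Nat.sub_add_cancel j.2]
  rfl

theorem mn_ts (j : Fin m) (t : Fin m → kˣ) : mn j (ts t : SG m k).1 = chi j t := by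
  have h := mn_mul_ts j 1 t
  rwa [one_mul, mn_one, mul_one] at h

theorem chi_dls (j : Fin m) (s : kˣ) : chi j (dls s) = s ^ ∑ a : Fin (j.1 + 1), (2 * (m - a.1) - 1) := by
  rw [chi, ← prod_pow_eq_pow_sum]; rfl

end Cfsg.Agent.TwoF.DC.TC
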