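import Cfsg.Agent.TwoF.DC.TC.Iface
import Cfsg.Agent.TwoF.DC.TA.Wt

/-!
# TwoF, defining characteristic, type C: the Siegel lemma `boxSie` (helper23)

`pl i j = ε_i + ε_j`, `mn i j = ε_i - ε_j`; the levels for the last node; the level lemma.
-/

set_option autoImplicit false
set_option linter.unusedSectionVars false

namespace Cfsg.Agent.TwoF.DC.TC

open Finset Matrix Sum

variable {m : ℕ}

/-- the root `ε_i + ε_j` -/
def pl (i j : Fin m) (h : i ≤ j) : PR m := ⟨(inl i, inl j), by have := Fin.le_def.1 h; simp only [ps]; omega⟩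
/-- the root `ε_i - ε_j` -/
def mn (i j : Fin m) (h : i < j) : PR m := ⟨(inl i, inr j), by have := Fin.lt_def.1 h; simp only [ps]; omega⟩

theorem rv_pl (i j : Fin m) (h : i ≤ j) : rv (pl i j h) = Pi.single i 1 + Pi.single j 1 := rfl
theorem rv_mn (i j : Fin m) (h : i < j) : rv (mn i j h) = Pi.single i 1 - Pi.single j 1 := (sub_eq_add_neg _ _).symm
theorem pl_mem (i j : Fin m) (h : i ≤ j) : pl i j h ∈ Sie m := mem_Sie.2 j.2
theorem mn_notMem (i j : Fin m) (h : i < j) : mn i j h ∉ Sie m := fun e => by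
  have h1 : 2 * m - 1 - j < m := mem_Sie.1 e
  omega

theorem exists_pl {b : PR m} (hb : b ∈ Sie m) : ∃ i j h, b = pl i j h := by
  obtain ⟨i, hi⟩ := exists_inl b.lt
  obtain ⟨j, hj⟩ := exists_inl (mem_Sie.1 hb)
  have h := b.2.1
  rw [hi, hj] at h
  exact ⟨i, j, h, Subtype.ext (Prod.ext hi hj)⟩

theorem exists_mn {b : PR m} (hb : b ∉ Sie m) : ∃ i j h, b = mn i j h := by
  obtain ⟨i, hi⟩ := exists_inl b.lt
  obtain ⟨⟨a, j | j⟩, h⟩ := b
  · exact (hb (mem_Sie.2 j.2)).elim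
  · cases hi
    exact ⟨i, j, by have := h.2; simp only [ps] at this; rw [Fin.lt_def]; omega, rfl⟩

theorem pl_inj {i j i' j' : Fin m} {h : i ≤ j} {h' : i' ≤ j'} : pl i j h = pl i' j' h' ↔ i = i' ∧ j = j' := by
  simp [pl]

theorem pair_pl (x : Fin m → ℤ) (i j : Fin m) (h : i ≤ j) :
    (eC m).rc.pair (tw x) (true, pl i j h) = if i = j then x i else x i + x j := by
  rw [pair_tw_true]; simp only [pl, inl.injEq, xv]

theorem pair_mn (x : Fin m → ℤ) (i j : Fin m) (h : i < j) : (eC m).rc.pair (tw x) (true, mn i j h) = x i - x j := by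
  rw [pair_tw_true, if_neg (by simp [mn]), sub_eq_add_neg]; rfl

theorem sum_rv_pl (i j : Fin m) (h : i ≤ j) : ∑ a, rv (pl i j h) a = 2 := by simp [rv_pl, sum_add_distrib]

theorem two_card_Sie (m : ℕ) : 2 * (Sie m).card = m * (m + 1) := by
  have h1 : (Sie m).card = (univ.sigma fun j : Fin m => Iic j).card := by
    symm
    refine card_bij (fun z hz => pl z.2 z.1 (mem_Iic.1 (mem_sigma.1 hz).2)) (fun _ _ => pl_mem _ _ _) ?_ fun b hb => ?_
    · rintro ⟨j, i⟩ _ ⟨j', i'⟩ _ e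
      obtain ⟨rfl, rfl⟩ := pl_inj.1 e
      rfl
    · obtain ⟨i, j, h, rfl⟩ := exists_pl hb
      exact ⟨⟨j, i⟩, mem_sigma.2 ⟨mem_univ _, mem_Iic.2 h⟩, rfl⟩
  rw [h1, card_sigma]
  simp only [Fin.card_Iic]
  rw [Fin.sum_univ_eq_sum_range (fun j => j + 1) m, mul_comm, ← add_zero (∑ _ ∈ _, _), ← sum_range_succ' (fun j => j) m,
    sum_range_id_mul_two, mul_comm]
  rfl

section last

variable {l : Fin m} (hl : ¬ l.1 + 1 < m)
include hl

theorem PS_last (x : Fin m → ℤ) : PS l x = ∑ i, x i :=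
  sum_congr (eq_univ_of_forall fun i => by rw [mem_Iic, Fin.le_def]; omega) fun _ _ => rfl

theorem cf_last (b : PR m) : (eC m).rc.cf b l = if b ∈ Sie m then 1 else 0 := by
  have h1 := cfC_eq b l
  have h2 := b.2
  rw [if_neg hl, PS_rv, PS_wv, PS_wv] at h1
  show cfC b l = _
  simp only [mem_Sie]
  split_ifs at h1 ⊢ <;> omega

theorem mem_Sie' (b : PR m) : b ∈ Sie m ↔ ∃ j, j = l ∧ 0 < (eC m).rc.cf b j := by
  simp only [exists_eq_left, cf_last hl]
  split_ifs with h <;> simp [h]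

theorem up_Sie : (eC m).rc.Up (Sie m) := fun b hb β a n h => (mem_Sie' hl a).2 ⟨l, rfl, by
  rw [h, Pi.add_apply, cf_last hl b, if_pos hb]; omega⟩

theorem s_mem_Sie {j : Fin m} (hj : j.1 + 1 < m) :
    (eC m).rc.zi j ∉ Sie m ∧ ∀ b ∈ Sie m, (eC m).rc.s j b ∈ Sie m := by
  have h0 : l ≠ j := fun e => hl (e ▸ hj)
  have h1 : (eC m).rc.zi j ∉ Sie m := fun h => by
    have h2 := cf_last hl ((eC m).rc.zi j)
    rw [if_pos h, RC.cf_zi, Pi.single_eq_of_ne h0] at h2
    omega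
  refine ⟨h1, fun b hb => (mem_Sie' hl _).2 ⟨l, rfl, ?_⟩⟩
  have h2 := (eC m).rc.cf_s j b (fun e => h1 (e ▸ hb)) l
  rw [if_neg h0, cf_last hl b, if_pos hb] at h2
  omega

variable {p : ℕ} {k L : Type} [Field k] [AddCommGroup L] [Module k L] (H : HW (eC m).rc p k L)

theorem dep_last {y : Fin m → ℤ} (h : H.IsWt (tw y)) : 2 * H.dep (tw y) l = ∑ i, x0 H i - ∑ i, y i := by
  have h1 := dep_C H h l
  rw [if_neg hl, PS_last hl] at h1
  simp only [Pi.sub_apply, sum_sub_distrib] at h1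
  omega

theorem dep_last_le {μ : Fin m → ℤ} (h : H.IsWt μ) : H.dep μ l ≤ ∑ i, x0 H i := by
  rw [← tw_ew μ] at h ⊢
  have h1 := (isWt_tw_sp H 1 (fun _ => -1) _).2 h
  rw [sp_neg] at h1
  have h2 := dep_last hl H h
  have h3 := dep_last hl H h1
  have h4 := H.dep_nonneg h1 l
  simp only [Pi.neg_apply, sum_neg_distrib] at h3
  omega

theorem card_le_cL_Sie (A : Finset (Fin m → ℤ)) (hA : ∀ y ∈ A, H.IsWt (tw y) ∧ ∑ i, y i ≠ ∑ i, x0 H i) :
    A.card ≤ H.cL (Sie m) := by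
  rw [← card_image_of_injective A tw_inj]
  refine H.card_le_cL_smith (mem_Sie' hl) _ fun μ hμ => ?_
  obtain ⟨y, hy, rfl⟩ := mem_image.1 hμ
  have h1 := dep_last hl H (hA y hy).1
  have h2 := (hA y hy).2
  exact ⟨(hA y hy).1, l, rfl, by omega⟩

theorem cG_Sie : H.cG (Sie m) = H.cL (Sie m) := H.cG_smith (mem_Sie' hl)

end last

section level

variable {p : ℕ} {k L : Type} [Field k] [AddCommGroup L] [Module k L] {H : HW (eC m).rc p k L}

theorem isWt_neg {y : Fin m → ℤ} (h : H.IsWt (tw y)) : H.IsWt (tw (-y)) := by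
  rw [← sp_neg, isWt_tw_sp]; exact h

theorem isWt_perm {y : Fin m → ℤ} (h : H.IsWt (tw y)) (π : Equiv.Perm (Fin m)) : H.IsWt (tw (y ∘ π)) := by
  rw [← sp_perm, isWt_tw_sp]; exact h

theorem isWt_x0 : H.IsWt (tw (x0 H)) := by rw [tw_x0]; exact H.isWt_lz

theorem isWt_pl (hX : H.X) {i j : Fin m} (h : i ≤ j) (hi : 0 < x0 H i) : H.IsWt (tw (x0 H - rv (pl i j h))) := by
  have h1 := hX.isWt_sub H.ext_lz (x := (true, pl i j h)) (by
    have := x0_nonneg H j
    rw [← tw_x0, pair_pl]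
    split_ifs <;> omega)
  rwa [← tw_x0, wt_true, ← tw_sub] at h1

/-- **the level lemma** -/
theorem level (hm : 2 ≤ m) (hX : H.X) (hN : 2 ≤ ∑ i, x0 H i) : ∃ A : Finset (Fin m → ℤ), (Sie m).card ≤ A.card ∧
    ∀ y ∈ A, H.IsWt (tw y) ∧ ∑ i, y i = ∑ i, x0 H i - 2 := by
  obtain ⟨l, hl⟩ : ∃ l : Fin m, l.1 + 1 = m := ⟨⟨m - 1, by omega⟩, by simp only; omega⟩
  obtain ⟨l', hl'⟩ : ∃ l' : Fin m, l'.1 + 2 = m := ⟨⟨m - 2, by omega⟩, by simp only; omega⟩
  obtain ⟨o, ho⟩ : ∃ o : Fin m, o.1 = 0 := ⟨⟨0, by omega⟩, rfl⟩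
  have hs : ∀ (i j : Fin m) (h : i ≤ j), ∑ a, (x0 H - rv (pl i j h)) a = ∑ i, x0 H i - 2 := fun i j h => by
    simp only [Pi.sub_apply, sum_sub_distrib, sum_rv_pl]
  have inj : Function.Injective fun b : PR m => x0 H - rv b := fun a b h => rv_inj (sub_right_injective h)
  have le : ∀ i, i ≤ l := fun i => by rw [Fin.le_def]; omega
  by_cases hA : 0 < x0 H l
  · refine ⟨(Sie m).image fun b => x0 H - rv b, (card_image_of_injective _ inj).ge, fun y hy => ?_⟩
    obtain ⟨b, hb, rfl⟩ := mem_image.1 hy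
    obtain ⟨i, j, h, rfl⟩ := exists_pl hb
    exact ⟨isWt_pl hX h (lt_of_lt_of_le hA (x0_anti H (le i))), hs _ _ _⟩
  have h0 : 0 < x0 H o := by
    by_contra h
    have : ∑ i, x0 H i ≤ 0 := sum_nonpos fun i _ => (x0_anti H (show o ≤ i by rw [Fin.le_def]; omega)).trans (not_lt.1 h)
    omega
  have hl0 : x0 H l = 0 := le_antisymm (not_lt.1 hA) (x0_nonneg H l)
  have hol : l ≠ o := Fin.ne_of_val_ne (by omega)
  obtain ⟨y, hy, hw, hsy⟩ : ∃ y : Fin m → ℤ, (∀ a, y a = x0 H a - ((if a = o then 1 else 0) + if a = l then 1 else 0)) ∧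
      H.IsWt (tw y) ∧ ∑ a, y a = ∑ i, x0 H i - 2 :=
    ⟨_, fun a => by simp only [rv_pl, Pi.sub_apply, Pi.add_apply, Pi.single_apply], isWt_pl hX (le o) h0, hs _ _ _⟩
  have hyl : y l = -1 := by rw [hy, if_neg hol, if_pos rfl, hl0]; rfl
  obtain ⟨i, hi⟩ : ∃ i, 0 < y i := by
    by_contra h
    push Not at h
    have h1 : ∑ a ∈ univ.erase l, y a ≤ 0 := sum_nonpos fun a _ => h a
    rw [← add_sum_erase _ _ (mem_univ l)] at hsy
    omega
  by_cases hB : 0 < x0 H l'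
  · refine ⟨insert (y ∘ Equiv.swap i l) (((Sie m).erase (pl l l le_rfl)).image fun b => x0 H - rv b), ?_, fun z hz => ?_⟩
    · rw [card_insert_of_notMem, card_image_of_injective _ inj, card_erase_add_one (pl_mem _ _ _)]
      intro h
      obtain ⟨b, hb, e⟩ := mem_image.1 h
      obtain ⟨a, j, h, rfl⟩ := exists_pl (mem_erase.1 hb).2
      have h1 := congrFun e l
      simp only [rv_pl, Pi.sub_apply, Pi.add_apply, Pi.single_apply, Function.comp_apply, Equiv.swap_apply_right] at h1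
      split_ifs at h1 <;> omega
    · rcases mem_insert.1 hz with rfl | hz
      · exact ⟨isWt_perm hw _, (Equiv.sum_comp _ y).trans hsy⟩
      · obtain ⟨b, hb, rfl⟩ := mem_image.1 hz
        obtain ⟨a, j, h, rfl⟩ := exists_pl (mem_erase.1 hb).2
        have h1 : a ≠ l := fun e => (mem_erase.1 hb).1 (pl_inj.2 ⟨e, le_antisymm (le j) (e ▸ h)⟩)
        have h2 : a ≤ l' := by have := Fin.val_ne_of_ne h1; rw [Fin.le_def]; omega
        exact ⟨isWt_pl hX h (lt_of_lt_of_le hB (x0_anti H h2)), hs _ _ _⟩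
  have hl0' : x0 H l' = 0 := le_antisymm (not_lt.1 hB) (x0_nonneg H l')
  have hol' : l' ≠ o := fun e => by rw [e] at hl0'; omega
  have hll : l' ≠ l := Fin.ne_of_val_ne (by omega)
  have hnn : ∀ a, a ≠ l → 0 ≤ y a := fun a ha => by
    have := x0_nonneg H a
    rw [hy, if_neg ha]
    split_ifs with h
    · rw [h]; omega
    · omega
  obtain ⟨f, hf, hf'⟩ := TA.exists_inj_perm (univ.erase l) y (Or.inr ⟨i, mem_erase.2 ⟨fun e => by rw [e] at hi; omega,
    mem_univ _⟩, l', mem_erase.2 ⟨hll, mem_univ _⟩, by rw [hy l', if_neg hol', if_neg hll]; omega⟩)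
  refine ⟨(univ ×ˢ univ.erase l).image fun z => (y ∘ f z.2) ∘ Equiv.swap z.1 l, ?_, fun z hz => ?_⟩
  · rw [card_image_of_injOn, card_product, card_erase_of_mem (mem_univ _), card_univ, Fintype.card_fin]
    · have h1 := two_card_Sie m
      have h2 := Fin.val_ne_of_ne hol'
      obtain ⟨n, rfl⟩ : ∃ n, m = n + 3 := ⟨m - 3, by omega⟩
      show _ ≤ (n + 3) * (n + 2)
      nlinarith
    · rintro ⟨a, z⟩ hz ⟨a', z'⟩ hz' e
      have hz := (mem_product.1 (mem_coe.1 hz)).2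
      have hz' := (mem_product.1 (mem_coe.1 hz')).2
      have h1 : a = a' := by
        by_contra h
        have h2 := congrFun e a
        simp only [Function.comp_apply, Equiv.swap_apply_left] at h2
        rw [hf z hz l (notMem_erase _ _), hyl] at h2
        have h3 := hnn (f z' (Equiv.swap a' l a)) fun h3 => h (by
          have h4 := (f z').injective (h3.trans (hf z' hz' l (notMem_erase _ _)).symm)
          rwa [Equiv.swap_apply_eq_iff, Equiv.swap_apply_right] at h4)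
        omega
      subst h1
      rw [hf' z hz z' hz' ((Equiv.swap a l).surjective.injective_comp_right e)]
  · obtain ⟨z, -, rfl⟩ := mem_image.1 hz
    exact ⟨isWt_perm (isWt_perm hw _) _, (Equiv.sum_comp _ (y ∘ f z.2)).trans ((Equiv.sum_comp _ y).trans hsy)⟩

theorem succ_le_cL (hm : 2 ≤ m) (hX : H.X) (hN : 2 ≤ ∑ i, x0 H i) : (Sie m).card + 1 ≤ H.cL (Sie m) := by
  obtain ⟨A, h1, h2⟩ := level hm hX hN
  have h3 := card_le_cL_Sie (l := ⟨m - 1, by omega⟩) (by simp only; omega) H (insert (-x0 H) A) fun y hy => by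
    rcases mem_insert.1 hy with rfl | hy
    · exact ⟨isWt_neg isWt_x0, by simp only [Pi.neg_apply, sum_neg_distrib]; omega⟩
    · exact ⟨(h2 y hy).1, by have := (h2 y hy).2; omega⟩
  rw [card_insert_of_notMem fun h => by have := (h2 _ h).2; simp only [Pi.neg_apply, sum_neg_distrib] at this; omega]
    at h3
  omega

theorem two_succ_le_cL (hm : 2 ≤ m) (hX : H.X) (hN : 3 ≤ ∑ i, x0 H i) : 2 * (Sie m).card + 1 ≤ H.cL (Sie m) := by
  obtain ⟨A, h1, h2⟩ := level hm hX (by omega)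
  have h4 : ∀ y ∈ A.image fun y => -y, H.IsWt (tw y) ∧ ∑ i, y i = 2 - ∑ i, x0 H i := fun y hy => by
    obtain ⟨z, hz, rfl⟩ := mem_image.1 hy
    exact ⟨isWt_neg (h2 z hz).1, by have := (h2 z hz).2; simp only [Pi.neg_apply, sum_neg_distrib]; omega⟩
  have h3 := card_le_cL_Sie (l := ⟨m - 1, by omega⟩) (by simp only; omega) H
    (insert (-x0 H) (A ∪ A.image fun y => -y)) fun y hy => by
    rcases mem_insert.1 hy with rfl | hy
    · exact ⟨isWt_neg isWt_x0, by simp only [Pi.neg_apply, sum_neg_distrib]; omega⟩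
    rcases mem_union.1 hy with hy | hy
    · exact ⟨(h2 y hy).1, by have := (h2 y hy).2; omega⟩
    · exact ⟨(h4 y hy).1, by have := (h4 y hy).2; omega⟩
  rw [card_insert_of_notMem, card_union_of_disjoint, card_image_of_injective _ neg_injective] at h3
  · omega
  · exact disjoint_left.2 fun y h h' => by have := (h2 y h).2; have := (h4 y h').2; omega
  · intro h
    rcases mem_union.1 h with h | h
    · have := (h2 _ h).2; simp only [Pi.neg_apply, sum_neg_distrib] at this; omega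
    · have := (h4 _ h).2; simp only [Pi.neg_apply, sum_neg_distrib] at this; omega

end level

/-- root groups commute if no root is a positive combination -/
theorem commute_of_cf {p : ℕ} {ι Φ k G : Type} [Fintype ι] [DecidableEq ι] [DecidableEq Φ] [Field k] [Group G]
    (D : RDat p ι Φ k G) {b b' : Φ} (h : ∀ a (u v : ℕ), 0 < u → 0 < v → D.R.cf a ≠ u • D.R.cf b + v • D.R.cf b')
    (s t : k) : Commute (D.z b s) (D.z b' t) := by
  exact commutatorElement_eq_one_iff_commute.1 (Subgroup.mem_bot.1 ((Subgroup.closure_le ⊥).2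
    (by rintro g ⟨a, _, ⟨u, v, hu, hv, e⟩, _⟩; exact (h a u v hu hv e).elim) (D.cm b b' s t)))

theorem sie_one (hm : 2 ≤ m) {R : RC (Fin m) (PR m)} (hR : R = (eC m).rc) {p : ℕ} {k L : Type} [Field k]
    [AddCommGroup L] [Module k L] (H : HW R p k L) (hX : H.X) :
    H.cG (Sie m) = H.cL (Sie m) ∧
    (H.cL (Sie m) ≤ 2 * (Sie m).card → ∀ a ∈ Sie m, ∀ b ∈ Sie m, ∀ c ∈ Sie m, ∀ l n o, 0 < l → 0 < n → 0 < o →
      H.E (true, a) l * H.E (true, b) n * H.E (true, c) o = 0) ∧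
    (H.cL (Sie m) ≤ (Sie m).card → ∀ a ∈ Sie m, ∀ b ∈ Sie m, ∀ l n, 0 < l → 0 < n →
      H.E (true, a) l * H.E (true, b) n = 0) := by
  subst hR
  obtain ⟨l, hl⟩ : ∃ l : Fin m, ¬ l.1 + 1 < m := ⟨⟨m - 1, by omega⟩, by simp only; omega⟩
  have h1 : ∀ b ∈ Sie m, 1 ≤ (eC m).rc.hv (Pi.single l 1) b := fun b hb => by
    rw [RC.hv_single, cf_last hl, if_pos hb]; rfl
  refine ⟨cG_Sie hl H, fun h => H.cubic_of_lev _ _ h1 (lo := 0) fun μ hμ => ?_,
    fun h => H.quad_of_lev _ _ h1 (lo := 0) fun μ hμ => ?_⟩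
  · have h2 := two_succ_le_cL hm hX
    have h3 := dep_last_le hl H hμ
    rw [H.lev_single]
    exact ⟨H.dep_nonneg hμ l, by omega⟩
  · have h2 := succ_le_cL hm hX
    have h3 := dep_last_le hl H hμ
    rw [H.lev_single]
    exact ⟨H.dep_nonneg hμ l, by omega⟩

/-- **the Siegel lemma** -/
theorem boxSie : BoxSie := by
  intro p _ m hm k G _ _ _ D hR σ F hX hv
  obtain ⟨l, hl⟩ : ∃ l : Fin m, ¬ l.1 + 1 < m := ⟨⟨m - 1, by omega⟩, by simp only; omega⟩
  have h1 := fun j => sie_one hm hR (F.H j) (hX j)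
  have h2 := fun j => (single_le_sum (f := fun j => if F.dbl j then (F.H j).cL (Sie m) *
    (2 * (F.H j).d - (F.H j).cL (Sie m)) else 2 * (F.H j).cL (Sie m)) (fun _ _ => Nat.zero_le _) (mem_univ j)).trans hv
  refine ⟨Sie m, ⟨_, pl_mem l l le_rfl⟩, fun _ h => h, fun b hb b' hb' => commute_of_cf D fun a u v hu hv e => ?_,
    fun j hj => (h1 j).2.1 ?_, fun j hj => (h1 j).2.2 ?_, ?_⟩
  · have h3 := congrFun e l
    rw [hR, Pi.add_apply, Pi.smul_apply, Pi.smul_apply, cf_last hl, cf_last hl, cf_last hl, if_pos hb, if_pos hb',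
      smul_eq_mul, smul_eq_mul] at h3
    split_ifs at h3 <;> omega
  · have h3 := h2 j
    rw [hj] at h3
    simp only [Bool.false_eq_true, if_false] at h3
    omega
  · have h3 := h2 j
    rw [hj, if_pos rfl] at h3
    by_contra h4
    have h5 := (F.H j).cL_lt_d (Sie m)
    have h6 := Nat.mul_le_mul (show (Sie m).card + 1 ≤ (F.H j).cL (Sie m) by omega)
      (show (Sie m).card + 3 ≤ 2 * (F.H j).d - (F.H j).cL (Sie m) by omega)
    nlinarith
  · rw [Fam.valG]
    simp only [fun j => (h1 j).1]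
    exact hv

end Cfsg.Agent.TwoF.DC.TC
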