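import Cfsg.Agent.TwoF.DC.TC.RtC
import Cfsg.Agent.H421.UniS.Frame
import Cfsg.Agent.H45.UniS.Datum

/-!
# TwoF, defining characteristic, type C (3): root elements of `Sp_(2m)(k)` and their relations (helper34)
-/

set_option autoImplicit false
set_option linter.unusedSectionVars false
set_option linter.unusedSimpArgs false

namespace Cfsg.Agent.TwoF.DC.TC

open Finset Matrix Sum Cfsg.Agent.H45.UniS Cfsg.Agent.H421.UniS Cfsg.Agent.ClassicalGeometry.SympBasic

variable {m : ℕ} {k : Type} [Field k]

/-- basis vectors -/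
def bv (a : II m) : VV m k := Pi.single a 1
/-- the sign of an index -/
def sg (k : Type) [Field k] : II m → k
  | inl _ => 1
  | inr _ => -1
/-- the form with a basis vector -/
def om (v : VV m k) (a : II m) : k := sg k a * v a.swap

theorem sg_swap (a : II m) : sg k a.swap = -sg k a := by rcases a with i | i <;> simp [sg]
theorem sg_sq (a : II m) : sg k a * sg k a = 1 := by rcases a with i | i <;> simp [sg]
theorem sg_ne (a : II m) : sg k a ≠ 0 := fun h => by simpa [h] using sg_sq (k := k) a
theorem form_bv (v : VV m k) (a : II m) : sympForm m k v (bv a) = om v a := by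
  rcases a with i | i
  · exact (om_ee' i v).trans (one_mul _).symm
  · exact (om_ff' i v).trans (neg_one_mul _).symm
theorem om_add (v w : VV m k) (a : II m) : om (v + w) a = om v a + om w a := mul_add _ _ _
theorem om_sub (v w : VV m k) (a : II m) : om (v - w) a = om v a - om w a := mul_sub _ _ _
theorem om_smul (c : k) (v : VV m k) (a : II m) : om (c • v) a = c * om v a := mul_left_comm _ _ _
theorem om_bv (a b : II m) : om (bv a : VV m k) b = if a = b.swap then sg k b else 0 := by
  rw [om, bv, Pi.single_apply]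
  by_cases h : a = b.swap
  · rw [if_pos h, if_pos h.symm, mul_one]
  · rw [if_neg h, if_neg (Ne.symm h), mul_zero]
theorem om_bv_ne {a b : II m} (h : a ≠ b.swap) : om (bv a : VV m k) b = 0 := by rw [om_bv, if_neg h]
theorem om_bv_swap (b : II m) : om (bv b.swap : VV m k) b = sg k b := by rw [om_bv, if_pos rfl]
theorem om_bv_swap' (b : II m) : om (bv b : VV m k) b.swap = -sg k b := by rw [om_bv, swap_swap, if_pos rfl, sg_swap]
theorem om_bv_self (b : II m) : om (bv b : VV m k) b = 0 := om_bv_ne (swap_ne b).symm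

open Classical in
/-- Siegel elements, total version -/
noncomputable def el (u w : VV m k) (c : k) : SG m k := if h : sympForm m k u w = 0 then sl u w c h else 1

/-- the root element of the root `wv a + wv b` -/
noncomputable def X (a b : II m) (t : k) : SG m k := if a = b then el (bv a) 0 t else el (bv a) ((-t) • bv b) 0

theorem X_long (a : II m) (t : k) (v : VV m k) : lin (X a a t) v = v + (t * om v a) • bv a := by
  rw [X, if_pos rfl, el, dif_pos (sympForm_zero_right _), sl_apply, form_bv, sympForm_zero_right]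
  module

theorem X_short {a b : II m} (h1 : a ≠ b) (h2 : a ≠ b.swap) (t : k) (v : VV m k) :
    lin (X a b t) v = v - (t * om v a) • bv b - (t * om v b) • bv a := by
  rw [X, if_neg h1, el, dif_pos (by rw [sympForm_smul_right, form_bv, om_bv_ne h2, mul_zero]), sl_apply, form_bv,
    sympForm_smul_right, form_bv]
  module

theorem sg_ext {g h : SG m k} (e : ∀ v, lin g v = lin h v) : g = h := lin_inj (LinearEquiv.ext e)
theorem lin_mul (g h : SG m k) (v : VV m k) : lin (g * h) v = lin g (lin h v) := by rw [map_mul]; rfl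

theorem X_comm {a b : II m} (h2 : a ≠ b.swap) (t : k) : X a b t = X b a t := by
  by_cases h1 : a = b
  · rw [h1]
  · refine sg_ext fun v => ?_
    rw [X_short h1 h2, X_short (Ne.symm h1) (mt eq_swap_comm.1 h2)]
    abel

theorem X_add {a b : II m} (h2 : a ≠ b.swap) (s t : k) : X a b (s + t) = X a b s * X a b t := by
  refine sg_ext fun v => ?_
  by_cases h1 : a = b
  · subst h1
    simp only [lin_mul, X_long, om_add, om_smul, om_bv_self]
    module
  · simp only [lin_mul, X_short h1 h2, om_sub, om_smul, om_bv_self, om_bv_ne h2, om_bv_ne (mt eq_swap_comm.1 h2)]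
    module

theorem X_xs (i : Fin m) (s : k) : X (inl i) (nb i) s = xs i s := by
  refine sg_ext fun v => ?_
  unfold nb
  split_ifs with h
  · rw [X_short (by simp) (by simp [Fin.ext_iff]), xs_long h]
    simp only [om, sg, swap_inl, swap_inr, bv, ee, ff]
    module
  · rw [X_long, xs_short h]
    simp only [om, sg, swap_inl, bv, ee, one_mul]

/-! ### commutators -/

theorem R0 {a b c d : II m} (h1 : a ≠ b.swap) (h2 : c ≠ d.swap) (h3 : a ≠ c.swap) (h4 : a ≠ d.swap) (h5 : b ≠ c.swap)
    (h6 : b ≠ d.swap) (s t : k) : X a b s * X c d t = X c d t * X a b s := by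
  have h1' := mt eq_swap_comm.1 h1
  have h2' := mt eq_swap_comm.1 h2
  have h3' := mt eq_swap_comm.1 h3
  have h4' := mt eq_swap_comm.1 h4
  have h5' := mt eq_swap_comm.1 h5
  have h6' := mt eq_swap_comm.1 h6
  refine sg_ext fun v => ?_
  by_cases e1 : a = b <;> by_cases e2 : c = d
  · subst e1 e2
    simp only [lin_mul, X_long, om_add, om_smul, om_bv_ne h3, om_bv_ne h3']
    module
  · subst e1
    simp only [lin_mul, X_long, X_short e2 h2, om_add, om_sub, om_smul, om_bv_ne h3, om_bv_ne h3', om_bv_ne h4,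
      om_bv_ne h4']
    module
  · subst e2
    simp only [lin_mul, X_long, X_short e1 h1, om_add, om_sub, om_smul, om_bv_ne h3, om_bv_ne h3', om_bv_ne h5,
      om_bv_ne h5']
    module
  · simp only [lin_mul, X_short e1 h1, X_short e2 h2, om_sub, om_smul, om_bv_ne h3, om_bv_ne h3', om_bv_ne h4,
      om_bv_ne h4', om_bv_ne h5, om_bv_ne h5', om_bv_ne h6, om_bv_ne h6']
    module

theorem R1 {a b d : II m} (h1 : a ≠ b) (h2 : a ≠ b.swap) (h3 : d ≠ b) (h4 : d ≠ b.swap) (h5 : a ≠ d) (h6 : a ≠ d.swap)
    (s t : k) : X a b s * X b.swap d t = X a d (-sg k b * s * t) * X b.swap d t * X a b s := by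
  have h2' := mt eq_swap_comm.1 h2
  have h4' := mt eq_swap_comm.1 h4
  have h6' := mt eq_swap_comm.1 h6
  have h7 : b.swap ≠ d.swap := mt swap_inj.1 h3.symm
  have h8 : a ≠ b.swap.swap := by rwa [swap_swap]
  have h9 : d ≠ b.swap.swap := by rwa [swap_swap]
  refine sg_ext fun v => ?_
  simp only [lin_mul, X_short h1 h2, X_short h4.symm h7, X_short h5 h6, om_sub, om_smul, om_bv_self, om_bv_swap,
    om_bv_swap', om_bv_ne h2, om_bv_ne h2', om_bv_ne h4, om_bv_ne h4', om_bv_ne h6, om_bv_ne h6', om_bv_ne h7,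
    om_bv_ne h8, om_bv_ne h9, om_bv_ne (mt eq_swap_comm.1 h8)]
  module

theorem R1' {a b : II m} (h1 : a ≠ b) (h2 : a ≠ b.swap) (s t : k) :
    X a b s * X b.swap a t = X a a (2 * sg k b * s * t) * X b.swap a t * X a b s := by
  have h2' := mt eq_swap_comm.1 h2
  have h7 : b.swap ≠ a.swap := mt swap_inj.1 h1.symm
  have h8 : a ≠ b.swap.swap := by rwa [swap_swap]
  refine sg_ext fun v => ?_
  simp only [lin_mul, X_short h1 h2, X_short h2.symm h7, X_long, om_sub, om_add, om_smul, om_bv_self, om_bv_swap,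
    om_bv_swap', om_bv_ne h2, om_bv_ne h2', om_bv_ne h7, om_bv_ne h8]
  module

theorem R2 {a b : II m} (h1 : a ≠ b) (h2 : a ≠ b.swap) (s t : k) :
    X a b s * X b.swap b.swap t = X a b.swap (sg k b * s * t) * X a a (s ^ 2 * t) * X b.swap b.swap t * X a b s := by
  have h2' := mt eq_swap_comm.1 h2
  have h7 : b.swap ≠ a.swap := mt swap_inj.1 h1.symm
  have h8 : a ≠ b.swap.swap := by rwa [swap_swap]
  have h9 := sg_sq (k := k) b
  refine sg_ext fun v => ?_
  simp only [lin_mul, X_short h1 h2, X_short h2 h8, X_long, om_sub, om_add, om_smul, om_bv_self, om_bv_swap,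
    om_bv_swap', om_bv_ne h2, om_bv_ne h2', om_bv_ne h7, om_bv_ne h8]
  match_scalars <;> first | ring1 | linear_combination (t * s ^ 2 * om v a) * h9

theorem R3 {a b : II m} (h1 : a ≠ b) (h2 : a ≠ b.swap) (s t : k) : X b.swap b.swap t * X a b s =
    X a b.swap (-sg k b * t * s) * X a a (-t * s ^ 2) * X a b s * X b.swap b.swap t := by
  have h2' := mt eq_swap_comm.1 h2
  have h7 : b.swap ≠ a.swap := mt swap_inj.1 h1.symm
  have h8 : a ≠ b.swap.swap := by rwa [swap_swap]
  have h9 := sg_sq (k := k) b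
  refine sg_ext fun v => ?_
  simp only [lin_mul, X_short h1 h2, X_short h2 h8, X_long, om_sub, om_add, om_smul, om_bv_self, om_bv_swap,
    om_bv_swap', om_bv_ne h2, om_bv_ne h2', om_bv_ne h7, om_bv_ne h8]
  match_scalars <;> first | ring1 | linear_combination (t * s ^ 2 * om v a) * h9 | linear_combination (-t * s ^ 2 * om v a) * h9

/-! ### monomial elements -/

theorem conjX {g : SG m k} {a b a' b' : II m} {α β : k} (h1 : a ≠ b.swap) (h2 : a' ≠ b'.swap) (h3 : a = b ↔ a' = b')
    (h4 : a = b → α = β) (ha : lin g (bv a) = α • bv a') (hb : lin g (bv b) = β • bv b') (t : k) :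
    g * X a b t = X a' b' (α * β * t) * g := by
  refine sg_ext fun v => ?_
  have e1 : om v a = α * om (lin g v) a' := by rw [← form_bv, ← om_lin g, ha, sympForm_smul_right, form_bv]
  have e2 : om v b = β * om (lin g v) b' := by rw [← form_bv, ← om_lin g, hb, sympForm_smul_right, form_bv]
  by_cases h : a = b
  · obtain rfl := h3.1 h
    obtain rfl := h4 h
    subst h
    simp only [lin_mul, X_long, map_add, map_smul, ha, e1]
    module
  · simp only [lin_mul, X_short h h1, X_short (mt h3.2 h) h2, map_sub, map_smul, ha, hb, e1, e2]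
    module

theorem ts_bv (t : Fin m → kˣ) (a : II m) : lin (ts t) (bv a) = tsVec t a • bv a := by
  rcases a with i | i
  · exact ts_ee t i
  · exact ts_ff t i

theorem ts_X {a b : II m} (h : a ≠ b.swap) (t : Fin m → kˣ) (s : k) :
    ts t * X a b s = X a b (tsVec t a * tsVec t b * s) * ts t :=
  conjX h h Iff.rfl (fun e => by rw [e]) (ts_bv t a) (ts_bv t b) s

theorem X_ys (i : Fin m) (s : k) : X (inr i) (nb i).swap (if i.1 + 1 < m then s else -s) = ys i s := by
  refine sg_ext fun v => ?_
  unfold nb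
  split_ifs with h
  · rw [X_short (by simp) (by simp [Fin.ext_iff]), ys_long h]
    simp only [om, sg, swap_inl, swap_inr, bv, ee, ff]
    module
  · rw [swap_inl, X_long, ys_short h]
    simp only [om, sg, swap_inr, bv, ff]
    module

theorem n_bv (i : Fin m) (x : II m) :
    ∃ ε : kˣ, lin (xs i 1 * ys i (-1) * xs i 1) (bv x : VV m k) = (ε : k) • bv (rI i x) := by
  rw [← X_xs, ← X_ys, rI]
  have e0 : (inr i : II m) = (inl i : II m).swap := rfl
  have e1 : sg k (inl i : II m) = 1 := rfl
  by_cases h : i.1 + 1 < m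
  · have e2 : sg k (nb i) = -1 := by rw [nb, dif_pos h]; rfl
    have h1 : inl i ≠ nb i := by rw [nb, dif_pos h]; simp
    have h2 : inl i ≠ (nb i).swap := by rw [nb, dif_pos h]; simp [Fin.ext_iff]
    rw [if_pos h, e0]
    generalize (inl i : II m) = a at *
    generalize nb i = b at *
    have h3 : a.swap ≠ b.swap := mt swap_inj.1 h1
    have h4 : a.swap ≠ b.swap.swap := mt swap_inj.1 h2
    have h5 : a ≠ b.swap.swap := by rwa [swap_swap]
    have h6 : b ≠ a.swap.swap := by rw [swap_swap]; exact h1.symm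
    have h2' := mt eq_swap_comm.1 h2
    simp only [lin_mul, X_short h1 h2, X_short h3 h4]
    split_ifs with c1 c2 c3 c4
    · refine ⟨-1, ?_⟩
      simp only [c1, om_sub, om_smul, om_bv_self, om_bv_swap, om_bv_swap', om_bv_ne h2, om_bv_ne h2', om_bv_ne h3,
        om_bv_ne h3.symm, om_bv_ne h4, om_bv_ne h5, om_bv_ne h6, om_bv_ne h4.symm, e1, e2, Units.val_neg, Units.val_one]
      module
    · refine ⟨1, ?_⟩
      simp only [c2, om_sub, om_smul, om_bv_self, om_bv_swap, om_bv_swap', om_bv_ne h2, om_bv_ne h2', om_bv_ne h3,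
        om_bv_ne h3.symm, om_bv_ne h4, om_bv_ne h5, om_bv_ne h6, om_bv_ne (mt eq_swap_comm.1 h4), e1, e2, Units.val_one]
      module
    · refine ⟨-1, ?_⟩
      simp only [c3, om_sub, om_smul, om_bv_self, om_bv_swap, om_bv_swap', om_bv_ne h2, om_bv_ne h2', om_bv_ne h3,
        om_bv_ne h3.symm, om_bv_ne h4, om_bv_ne h5, om_bv_ne h6, om_bv_ne (mt eq_swap_comm.1 h4), e1, e2, Units.val_neg,
        Units.val_one]
      module
    · refine ⟨1, ?_⟩
      simp only [c4, om_sub, om_smul, om_bv_self, om_bv_swap, om_bv_swap', om_bv_ne h2, om_bv_ne h2', om_bv_ne h3,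
        om_bv_ne h3.symm, om_bv_ne h4, om_bv_ne h5, om_bv_ne h6, om_bv_ne (mt eq_swap_comm.1 h4), e1, e2, Units.val_one]
      module
    · refine ⟨1, ?_⟩
      simp only [om_sub, om_smul, om_bv_ne c2, om_bv_ne c3, om_bv_ne (show x ≠ a.swap.swap by rwa [swap_swap]),
        om_bv_ne (show x ≠ b.swap.swap by rwa [swap_swap]), mul_zero, zero_smul, sub_zero, Units.val_one, one_smul]
  · have e2 : nb i = inl i := by rw [nb, dif_neg h]
    rw [if_neg h, e0, e2]
    generalize (inl i : II m) = a at *
    simp only [lin_mul, X_long]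
    split_ifs with c1 c2
    · refine ⟨-1, ?_⟩
      simp only [c1, om_add, om_smul, om_bv_self, om_bv_swap, om_bv_swap', e1, Units.val_neg, Units.val_one]
      module
    · refine ⟨1, ?_⟩
      simp only [c2, om_add, om_smul, om_bv_self, om_bv_swap, om_bv_swap', e1, Units.val_one]
      module
    · refine ⟨1, ?_⟩
      simp only [om_bv_ne c2, om_bv_ne (show x ≠ a.swap.swap by rwa [swap_swap]), mul_zero, zero_smul, add_zero,
        Units.val_one, one_smul]

theorem rI_swap (i : Fin m) (x : II m) : rI i x.swap = (rI i x).swap := wv_inj (by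
  rw [wv_swap, wv_rI, wv_rI, wv_swap, dotProduct_neg, neg_smul]; abel)

theorem n_X (i : Fin m) {a b : II m} (h : a ≠ b.swap) : ∃ ε : kˣ, ∀ t : k,
    xs i 1 * ys i (-1) * xs i 1 * X a b t = X (rI i a) (rI i b) (ε * t) * (xs i 1 * ys i (-1) * xs i 1) := by
  obtain ⟨α, ha⟩ := n_bv (k := k) i a
  obtain ⟨β, hb⟩ := n_bv (k := k) i b
  refine ⟨α * β, fun t => conjX h (by rwa [← rI_swap, Ne, rI_inj]) (rI_inj i).symm (fun e => ?_) ha hb t⟩
  subst e
  have h1 := congrFun (ha.symm.trans hb) (rI i a)
  simpa [bv] using h1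

/-! ### entries -/

theorem entry (g : SG m k) (x y : II m) : g.1 x y = lin g (bv y) x := by
  rw [lin_apply, bv, mulVec_single_one]; rfl

theorem X_bv_inl (b : PR m) (t : k) (l : Fin m) : lin (X b.1.1 b.1.2 t) (bv (inl l)) =
    bv (inl l) + (if b.1.2 = inr l then t else 0) • bv b.1.1 := by
  have hb := b.2
  have h1 : (inl l : II m) ≠ b.1.1.swap := by have := b.lt; rw [Ne, eq_swap_iff, ps_inl]; omega
  by_cases e : b.1.1 = b.1.2
  · rw [← e, X_long, om_bv_ne h1, mul_zero, if_neg (show ¬ b.1.1 = inr l from fun e => h1 (by rw [e]; rfl))]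
  · rw [X_short e (mt eq_swap_comm.1 b.ne), om_bv_ne h1, om_bv]
    by_cases e2 : b.1.2 = inr l
    · rw [if_pos e2, if_pos (by rw [e2]; rfl), e2, show sg k (inr l : II m) = -1 from rfl]; module
    · rw [if_neg e2, if_neg (show ¬ (inl l : II m) = b.1.2.swap from fun e => e2 (eq_swap_comm.1 e))]; module

end Cfsg.Agent.TwoF.DC.TC
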