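import Cfsg.Agent.TwoF.Gen.ASmall
import Cfsg.Agent.TwoF.Gen.BLay
import Cfsg.Agent.H452.FprSz
import Cfsg.Agent.S0325
import Cfsg.Agent.S0330
import Cfsg.Agent.S2126
import Cfsg.Agent.Lib.Zsigmondy
import Cfsg.Agent.H548.Crit

/-!
# TwoF, the Suzuki groups in characteristic two (helper68)
-/

set_option autoImplicit false

namespace Cfsg.Agent.TwoF.DC.TC

open Cfsg Cfsg.Agent.TwoF.Gen Subgroup

namespace Sz

section

variable {Y : Type*} [Group Y] [Finite Y]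

/-- a group with a non-degenerate alternating form over the field with two elements has order a power of four -/
theorem card_of_alt (B : Y → Y → ZMod 2) (n : ℕ) : ∀ A : Subgroup Y, Nat.card A = n →
    (∀ b ∈ A, AddOn A fun a => B a b) → (∀ a ∈ A, ∀ b ∈ A, B a b = B b a) → (∀ a ∈ A, B a a = 0) →
      (∀ a ∈ A, (∀ b ∈ A, B a b = 0) → a = 1) → ∃ k, n = 4 ^ k := by
  induction n using Nat.strong_induction_on with
  | _ n ih =>
    intro A hn h1 h2 h3 h4
    by_cases h0 : A = ⊥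
    · exact ⟨0, by rw [← hn, h0, card_bot, pow_zero]⟩
    obtain ⟨⟨a, ha⟩, ha1⟩ := ne_bot_iff_exists_ne_one.1 h0
    obtain ⟨b, hb, hab⟩ : ∃ b ∈ A, B a b ≠ 0 := by
      by_contra h
      push Not at h
      exact ha1 (Subtype.ext (h4 a ha h))
    have two : ∀ t : ZMod 2, t = 0 ∨ t = 1 := by decide
    have hab1 : B a b = 1 := (two _).resolve_left hab
    let f : A →* Multiplicative (ZMod 2 × ZMod 2) := MonoidHom.mk' (fun c => Multiplicative.ofAdd (B c a, B c b))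
      fun c d => by
        rw [← ofAdd_add, Prod.mk_add_mk, ← h1 a ha c c.2 d d.2, ← h1 b hb c c.2 d d.2]
        rfl
    have hf : ∀ t : Multiplicative (ZMod 2 × ZMod 2), ∃ c ∈ A,
        (B c a, B c b) = t.toAdd ∧ ∀ d ∈ A, B d a = 0 → B d b = 0 → B c d = 0 := by
      intro t
      have e1 := h1 a ha b hb a ha
      have e2 := h1 b hb b hb a ha
      beta_reduce at e1 e2
      rcases two t.toAdd.1 with u | u <;> rcases two t.toAdd.2 with v | v
      · exact ⟨1, one_mem _, Prod.ext ((h1 a ha).one.trans u.symm) ((h1 b hb).one.trans v.symm),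
          fun d hd _ _ => (h1 d hd).one⟩
      · exact ⟨a, ha, Prod.ext ((h3 a ha).trans u.symm) (hab1.trans v.symm),
          fun d hd h5 _ => (h2 a ha d hd).trans h5⟩
      · exact ⟨b, hb, Prod.ext (((h2 b hb a ha).trans hab1).trans u.symm) ((h3 b hb).trans v.symm),
          fun d hd _ h5 => (h2 b hb d hd).trans h5⟩
      · refine ⟨b * a, mul_mem hb ha, Prod.ext ?_ ?_, fun d hd h5 h6 => ?_⟩
        · show B (b * a) a = _
          rw [e1, h3 a ha, h2 b hb a ha, hab1, add_zero, u]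
        · show B (b * a) b = _
          rw [e2, h3 b hb, hab1, zero_add, v]
        · have e3 := h1 d hd b hb a ha
          beta_reduce at e3
          rw [e3, h2 b hb d hd, h2 a ha d hd, h5, h6, add_zero]
    have hs : f.range = ⊤ := eq_top_iff.2 fun t _ => by
      obtain ⟨c, hc, h5, -⟩ := hf t
      exact ⟨⟨c, hc⟩, congrArg Multiplicative.ofAdd h5⟩
    have hle : f.ker.map A.subtype ≤ A := map_subtype_le _
    have hm : ∀ c ∈ A, c ∈ f.ker.map A.subtype ↔ B c a = 0 ∧ B c b = 0 := fun c hc =>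
      ⟨fun ⟨d, hd, e⟩ => e ▸ Prod.mk.inj (congrArg Multiplicative.toAdd (show f d = 1 from hd)),
        fun h => ⟨⟨c, hc⟩, congrArg Multiplicative.ofAdd (Prod.ext h.1 h.2), rfl⟩⟩
    have hcard : n = 4 * Nat.card (f.ker.map A.subtype) := by
      rw [← hn, card_map_of_injective A.subtype_injective, ← card_mul_index f.ker, index_ker, hs, card_top, mul_comm]
      simp
    obtain ⟨k, hk⟩ := ih _ (by have := Nat.card_pos (α := f.ker.map A.subtype); omega) _ rfl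
      (fun b hb c hc d hd => h1 b (hle hb) c (hle hc) d (hle hd)) (fun a ha b hb => h2 a (hle ha) b (hle hb))
      (fun a ha => h3 a (hle ha)) fun c hc h5 => h4 c (hle hc) fun d hd => by
        obtain ⟨e, he, h6, h7⟩ := hf (f ⟨d, hd⟩)
        obtain ⟨h8, h9⟩ := Prod.mk.inj h6
        have e1 := h1 a ha d hd e he
        have e2 := h1 b hb d hd e he
        have e3 := h1 c (hle hc) d hd e he
        beta_reduce at e1 e2 e3
        have h10 := h5 (d * e) ((hm _ (mul_mem hd he)).2 ⟨by rw [e1, h8, CharTwo.add_self_eq_zero],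
          by rw [e2, h9, CharTwo.add_self_eq_zero]⟩)
        rw [h2 c (hle hc) _ (mul_mem hd he), e3, h7 c (hle hc) ((hm c (hle hc)).1 hc).1 ((hm c (hle hc)).1 hc).2,
          add_zero] at h10
        exact (h2 c (hle hc) d hd).trans h10
    exact ⟨k + 1, by rw [hcard, hk, pow_succ']⟩

/-- an `s`-group which acts without fixed points -/
theorem dvd_of_fpf {E X : Subgroup Y} {s : ℕ} [Fact s.Prime] (hX : IsPGroup s X)
    (hi : ∀ h ∈ X, ∀ e ∈ E, h * e * h⁻¹ ∈ E) (hf : ∀ e ∈ E, (∀ h ∈ X, h * e * h⁻¹ = e) → e = 1) :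
    s ∣ Nat.card E - 1 := by
  let _ : MulAction X E :=
    { smul := fun h e => ⟨h * e * h⁻¹, hi h h.2 e e.2⟩
      one_smul := fun e => Subtype.ext (by show ((1 : X) : Y) * e * ((1 : X) : Y)⁻¹ = e; simp)
      mul_smul := fun g h e => Subtype.ext (by
        show ((g : Y) * h) * e * ((g : Y) * h)⁻¹ = g * (h * e * (h : Y)⁻¹) * (g : Y)⁻¹
        group) }
  have h1 := hX.card_modEq_card_fixedPoints E
  have h2 : Nat.card (MulAction.fixedPoints X E) = 1 := by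
    rw [Nat.card_eq_one_iff_exists]
    refine ⟨⟨1, fun h => Subtype.ext (by show (h : Y) * 1 * (h : Y)⁻¹ = 1; simp)⟩, fun e => Subtype.ext (Subtype.ext ?_)⟩
    exact hf _ e.1.2 fun h hh => congrArg Subtype.val (e.2 ⟨h, hh⟩)
  rw [h2] at h1
  exact (Nat.modEq_iff_dvd' Nat.card_pos).1 h1.symm

end

/-- what is used about the group -/
structure Dat (S : Type) [Group S] (f : ℕ) : Prop where
  odd : Odd f
  two : 2 ≤ f
  out : ¬ 2 ∣ Nat.card (Out S)
  ex : ∀ A : Subgroup S, IsElementaryAbelian 2 A → ∃ (W : Subgroup S) (x : S) (s : ℕ), A ≤ W ∧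
    IsElementaryAbelian 2 W ∧ Nat.card W < 2 ^ (2 * f) ∧ s.Prime ∧ s ≠ 2 ∧ (∀ m, s ∣ 2 ^ m - 1 ↔ f ∣ m) ∧ x ^ s = 1 ∧
      x ∈ normalizer (W : Set S) ∧ ∀ w ∈ W, x * w = w * x → w = 1

theorem Dat.row {S : Type} [Group S] {f : ℕ} (D : Dat S f) : Row 2 S := by
  refine ⟨row88_of_sit fun Y _ _ V _ _ _ K ρ π φ H A hA => ?_, row89_of_not_dvd D.out⟩
  have hK := H.toFrm.le_of_not_dvd (elemAb_isPGroup hA.1) D.out
  have hA0 : IsElementaryAbelian 2 ((A.subgroupOf K).map π) :=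
    elemAb_map (elemAb_of (fun a ha b hb => Subtype.ext (elemAb_comm hA.1 ha hb))
      fun a ha => Subtype.ext (hA.1.2 a ha)) π
  obtain ⟨W, x, s, h1, h2, h3, hs, hs2, h4, h5, h6, h7⟩ := D.ex _ hA0
  have := Fact.mk hs
  obtain ⟨Z, z1, -, -, z2, z3, z4, z5⟩ := H.exists_lift (elemAb_isPGroup h2)
  obtain ⟨B, b1, b2, b3, -⟩ := lattice two_pos (z5 h2) hA fun a ha =>
    (z3 ⟨a, hK ha⟩).2 ⟨h1 ⟨_, ha, rfl⟩, 1, Subtype.ext (by rw [pow_one]; exact hA.1.2 a ha)⟩
  obtain ⟨Q, q1, q2, -⟩ := H.toFrm.exists_lift (elemAb_isPGroup (elemAb_zpowers h5))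
  have hN : Q.map K.subtype ≤ normalizer (B : Set Y) := by
    rintro _ ⟨y, hy, rfl⟩
    refine b3 (z4 _ fun w hw => ?_)
    rw [coe_subtype, H.toFrm.φ_coe]
    exact (mem_normalizer_iff.1 (zpowers_le.2 h6 (q2.le ⟨y, hy, rfl⟩)) w).1 hw
  have hfp : ∀ e ∈ B, (∀ h ∈ Q.map K.subtype, h * e * h⁻¹ = e) → e = 1 := by
    intro e he h
    obtain ⟨y, hy, e1⟩ := q2.ge (mem_zpowers x)
    obtain ⟨e2, n, e3⟩ := (z3 ⟨e, z1 (b1 he)⟩).1 (b1 he)
    refine H.toStp.eq_one_of_mem_centralizer (n := n) (congrArg Subtype.val e3)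
      (H.toFrm.π_eq_one_iff.1 (h7 _ e2 ?_))
    rw [← e1, ← map_mul, ← map_mul]
    exact congrArg π (Subtype.ext (mul_inv_eq_iff_eq_mul.1 (h y ⟨y, hy, rfl⟩)))
  have hc : ∀ E ≤ B, (∀ h ∈ Q.map K.subtype, ∀ e ∈ E, h * e * h⁻¹ ∈ E) → E = ⊥ ∨ Nat.card E = 2 ^ f := by
    intro E hE hi
    obtain ⟨r, hr⟩ := ((elemAb_isPGroup b2.1).to_le hE).exists_card_eq
    have c1 := dvd_of_fpf (q1.map K.subtype) hi fun e he => hfp e (hE he)
    rw [hr, h4] at c1
    have c2 : r < 2 * f := by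
      rw [← Nat.pow_lt_pow_iff_right (by norm_num : 1 < 2), ← hr]
      exact lt_of_le_of_lt (z2 ▸ card_le_of_le (hE.trans b1)) h3
    obtain ⟨c, rfl⟩ := c1
    rcases c with _ | _ | c
    · exact Or.inl (card_eq_one.1 hr)
    · exact Or.inr (by rw [hr]; simp)
    · nlinarith
  have hB := (hc B le_rfl fun h hh e he => (mem_normalizer_iff.1 (hN hh) e).1 he).resolve_left b2.2.1
  have hi : IrrOn B (Q.map K.subtype) := fun E hE hi =>
    (hc E hE hi).imp_right fun c => eq_of_le_of_card_ge hE (by rw [c, hB])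
  refine ⟨B, b2, by_contra fun hn => ?_⟩
  have key := layers_of_order (k := ZMod 2) (n := f) b2.1 hN le_rfl (fun H' c1 _ _ => ⟨NoLin.mono (noLin_of_irr hN hi ?_) c1,
    OneForm.mono (fun F F' c2 _ => ⟨1, 0, Or.inl one_ne_zero, fun a ha b hb => ?_⟩) c1⟩) hn ?_ (q1.map K.subtype)
    fun d d1 d2 d3 => ?_
  · have c1 := b2.2.2
    rw [hB, ← pow_mul, Nat.pow_le_pow_iff_right (by norm_num)] at c1
    omega
  · rw [Nat.card_zmod, hB]
    exact lt_of_lt_of_le (by norm_num) (Nat.pow_le_pow_right two_pos D.two)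
  · rw [one_mul, zero_mul]
    rcases hi (kerOn B (fun (b : B) a => F a b) fun b => c2.add b b.2) (fun _ h => h.1) (fun h hh e he =>
      ⟨(mem_normalizer_iff.1 (hN hh) e).1 he.1, fun b => by
        have c3 := c2.inv h hh e he.1 _ (conj_mem_of_normalizer' (hN hh) b.2)
        rw [show h * (h⁻¹ * b * h) * h⁻¹ = b by group] at c3
        exact c3.trans (he.2 ⟨_, conj_mem_of_normalizer' (hN hh) b.2⟩)⟩) with c3 | c3
    · obtain ⟨k, c4⟩ := card_of_alt F _ B hB c2.add c2.symm (c2.alt (by decide)) fun a ha c4 =>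
        mem_bot.1 (c3.le ⟨ha, fun b => c4 b b.2⟩)
      rw [show 4 = 2 ^ 2 from rfl, ← pow_mul, Nat.pow_right_inj (by norm_num)] at c4
      exact absurd D.odd (by rw [c4]; simp)
    · exact (c3.ge ha).2 ⟨b, hb⟩
  · rw [Nat.card_zmod]
    exact fun e => hs2 ((Nat.prime_dvd_prime_iff_eq hs Nat.prime_two).1 e)
  · rw [Nat.card_zmod] at d3
    exact absurd (Nat.le_of_dvd d1 ((h4 d).1 ((Nat.modEq_iff_dvd' Nat.one_le_two_pow).1 d3.symm))) d2.not_ge

theorem dat {F : Type} [Field F] [Fintype F] {m : ℕ} (hm : 1 ≤ m) (hF : Fintype.card F = 2 ^ (2 * m + 1))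
    (hout : Nat.card (Out ↥(Cfsg.Sz F m)) = 2 * m + 1) : Dat ↥(Cfsg.Sz F m) (2 * m + 1) := by
  refine ⟨odd_two_mul_add_one m, by omega, by omega, fun A hA => ?_⟩
  have := S0325.result hm hF
  obtain ⟨P, hP⟩ := (elemAb_isPGroup hA).exists_le_sylow
  obtain ⟨a, ha⟩ := H452.FprSz.exists_eq_P hm hF P
  obtain ⟨a1, -, a3, a4⟩ := H452.FprSz.sz_rank hm hF
  obtain ⟨s, hs, s1, -, s2⟩ := Lib.Zsigmondy.exists_primitive (a := 2) (n := 2 * m + 1) le_rfl (by omega) (by omega)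
    (by omega)
  have := Fact.mk hs
  have hc : ∀ x ∈ (P : Subgroup ↥(Cfsg.Sz F m)), ∀ y ∈ (P : Subgroup ↥(Cfsg.Sz F m)), x ^ 2 = 1 → y ^ 2 = 1 →
      x * y = y * x := fun x hx y hy h1 h2 => by
    rw [pow_two] at h1 h2
    have h3 := H101.SzSub.sq_eq hm hF a (ha ▸ hx) (ha ▸ hy) (h1.trans h2.symm)
    rw [inv_eq_of_mul_eq_one_right h2] at h3
    rw [← inv_eq_of_mul_eq_one_right h3, mul_inv_rev, inv_eq_of_mul_eq_one_right h1, inv_eq_of_mul_eq_one_right h2]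
  let W : Subgroup ↥(Cfsg.Sz F m) :=
    { carrier := {x | x ∈ (P : Subgroup ↥(Cfsg.Sz F m)) ∧ x ^ 2 = 1}
      one_mem' := ⟨one_mem _, one_pow _⟩
      mul_mem' := fun {x y} hx hy => ⟨mul_mem hx.1 hy.1, by
        rw [Commute.mul_pow (hc x hx.1 y hy.1 hx.2 hy.2), hx.2, hy.2, one_mul]⟩
      inv_mem' := fun {x} hx => ⟨inv_mem hx.1, by rw [inv_pow, hx.2, inv_one]⟩ }
  have hW : W < P := lt_of_le_of_ne (fun _ h => h.1) fun h => by
    have h1 : Monoid.exponent P ∣ 2 := Monoid.exponent_dvd_of_forall_pow_eq_one fun g => Subtype.ext (h.ge g.2).2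
    rw [(S0330.result hm hF P).2.1] at h1
    omega
  have hN : s ∣ Nat.card (normalizer ((P : Subgroup ↥(Cfsg.Sz F m)) : Set ↥(Cfsg.Sz F m))) := by
    have h1 := card_mul_index (normalizer ((P : Subgroup ↥(Cfsg.Sz F m)) : Set ↥(Cfsg.Sz F m)))
    rw [show (normalizer ((P : Subgroup ↥(Cfsg.Sz F m)) : Set ↥(Cfsg.Sz F m))).index = _ from
      P.card_eq_index_normalizer.symm, a3, a4, add_comm, mul_comm (_ + 1), ← mul_assoc] at h1
    rw [Nat.eq_of_mul_eq_mul_right (Nat.succ_pos _) h1]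
    exact ((s1 _).2 dvd_rfl).mul_left _
  obtain ⟨x, hx⟩ := exists_prime_orderOf_dvd_card' s hN
  have hx1 : orderOf (x : ↥(Cfsg.Sz F m)) = s := by rw [Subgroup.orderOf_coe, hx]
  have hs2 : s ≠ 2 := fun e => s2 (e ▸ dvd_rfl)
  refine ⟨W, x, s, fun y hy => ⟨hP hy, hA.2 y hy⟩, elemAb_of (fun a ha b hb => hc a ha.1 b hb.1 ha.2 hb.2)
    fun a ha => ha.2, ?_, hs, hs2, s1, hx1 ▸ pow_orderOf_eq_one _, mem_normalizer_iff.2 fun w => ?_,
    fun w hw h => H452.FprSz.sz_fpf hm hF hs hs2 hx1 P hw.1 h⟩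
  · rw [mul_comm 2, pow_mul, ← a1 P]
    exact lt_of_le_of_ne (card_le_of_le hW.le) fun h => hW.ne (eq_of_le_of_card_ge hW.le h.ge)
  · refine and_congr (mem_normalizer_iff.1 x.2 w) ?_
    rw [conj_pow, conj_eq_one_iff]

end Sz

/-- **the Suzuki groups in characteristic two** -/
theorem row_Sz (S : Type) [Group S] (h : Lie.IsoSuzuki S) : Row 2 S := by
  obtain ⟨F, iF, iF', m, hm, hF, ⟨e⟩⟩ := h
  obtain ⟨f⟩ := OddCyclic.ClaimC.SzIso.iso (F := F) hm hF
  exact (Sz.dat hm hF ((H548.Crit.card_out_congr f).trans (S2126.result hm hF))).row.of_equiv (e.trans f.symm)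

end Cfsg.Agent.TwoF.DC.TC
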