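import Cfsg.Agent.TwoF.DC.TC.Grp
import Cfsg.Agent.TwoF.DC.TC.Wt

/-!
# TwoF, defining characteristic, type C (5): pairs of positive roots (helper34)
-/

set_option autoImplicit false
set_option linter.unusedSectionVars false

namespace Cfsg.Agent.TwoF.DC.TC

open Finset Matrix Sum Cfsg.Agent.H45.UniS

variable {m : ℕ} {k : Type} [Field k]

/-- the positive root elements -/
noncomputable def Z (b : PR m) (t : k) : SG m k := X b.1.1 b.1.2 t

/-- short roots -/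
def Sh (b : PR m) : Prop := b.1.1 ≠ b.1.2

instance instDecSh (b : PR m) : Decidable (Sh b) := inferInstanceAs (Decidable (b.1.1 ≠ b.1.2))

theorem cv_sh {b : PR m} (h : Sh b) : cv b = rv b := if_neg h
theorem rv_lg {b : PR m} (h : ¬ Sh b) : rv b = (2 : ℤ) • cv b := by rw [rv_eq_cv, if_pos (not_not.1 h)]

theorem Z_add (b : PR m) (s t : k) : Z b (s + t) = Z b s * Z b t := X_add (fun h => b.ne (eq_swap_comm.1 h)) s t

/-- `b` is the root with the indices `x`, `y` -/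
def Is (b : PR m) (x y : II m) : Prop := b.1 = (x, y) ∨ b.1 = (y, x)

theorem Is.self (b : PR m) : Is b b.1.1 b.1.2 := Or.inl rfl
theorem Is.symm {b : PR m} {x y : II m} (h : Is b x y) : Is b y x := Or.symm h
theorem Is.lt {b : PR m} {x y : II m} (h : Is b x y) : ps x + ps y + 1 < 2 * m := by
  have := b.2.2
  rcases h with h | h <;> rw [h] at this <;> simp only at this <;> omega
theorem Is.ne {b : PR m} {x y : II m} (h : Is b x y) : x ≠ y.swap := by have := h.lt; rw [Ne, eq_swap_iff]; omega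
theorem Is.rv {b : PR m} {x y : II m} (h : Is b x y) : rv b = wv x + wv y := by
  rcases h with h | h <;> rw [TC.rv, h]
  exact add_comm _ _
theorem Is.sh {b : PR m} {x y : II m} (h : Is b x y) : Sh b ↔ x ≠ y := by
  rcases h with h | h <;> rw [Sh, h]
  exact ne_comm
theorem Is.Z {b : PR m} {x y : II m} (h : Is b x y) (t : k) : Z b t = X x y t := by
  have h1 := h.ne
  rcases h with h | h <;> rw [TC.Z, h]
  exact (X_comm h1 t).symm
theorem exists_is {x y : II m} (h : ps x + ps y + 1 < 2 * m) : ∃ b : PR m, Is b x y := by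
  rcases le_total (ps x) (ps y) with h1 | h1
  · exact ⟨⟨(x, y), h1, h⟩, Or.inl rfl⟩
  · exact ⟨⟨(y, x), h1, by simp only; omega⟩, Or.inr rfl⟩

theorem xv_wv_le (x y : II m) : xv (wv y) x ≤ 1 := by rw [xv_wv]; split_ifs <;> omega
theorem le_xv_wv (x y : II m) : -1 ≤ xv (wv y) x := by rw [xv_wv]; split_ifs <;> omega
theorem xv_wv_nonneg {x y : II m} (h : x ≠ y.swap) : 0 ≤ xv (wv y) x := by rw [xv_wv, if_neg h]; split_ifs <;> omega
theorem xv_wv_comm (x y : II m) : xv (wv y) x = xv (wv x) y := by rw [← wv_dot, ← wv_dot, dotProduct_comm]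
theorem eq_of_xv_wv {x y : II m} (h : 0 < xv (wv y) x) : x = y := by
  by_contra e
  rw [xv_wv, if_neg e] at h
  split_ifs at h <;> omega
theorem xv_wv_ne {x y : II m} (h : x ≠ y) (h' : x ≠ y.swap) : xv (wv y) x = 0 := by rw [xv_wv, if_neg h, if_neg h']
theorem xv_wv_swap (x : II m) : xv (wv x.swap) x = -1 := by rw [wv_swap, xv_neg, xv_wv_self]

/-- the relations between two positive root groups -/
inductive Tri (k : Type) [Field k] (β b : PR m) : Prop
  | t0 : (∀ s t : k, Z β s * Z b t = Z b t * Z β s) → 0 ≤ rv β ⬝ᵥ rv b → (∀ a, rv a ≠ rv β + rv b) → Tri k β b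
  | t1 (a : PR m) (ε : k) : ε * ε = 1 → Sh β → Sh b → Sh a → rv a = rv β + rv b →
      (∀ s t : k, Z β s * Z b t = Z a (ε * s * t) * Z b t * Z β s) → Tri k β b
  | t1' (a : PR m) (ε : k) : ε * ε = 1 → Sh β → Sh b → ¬ Sh a → rv a = rv β + rv b →
      (∃ x y, y ≠ x.swap ∧ rv b - rv β = wv x + wv y) → (∃ x, xv (rv b - (2 : ℤ) • rv β) x = 3) →
      (∀ s t : k, Z β s * Z b t = Z a (2 * ε * s * t) * Z b t * Z β s) → Tri k β b
  | t2 (a a' : PR m) (ε : k) : ε * ε = 1 → Sh β → ¬ Sh b → Sh a → ¬ Sh a' → rv a = rv β + rv b →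
      rv a' = (2 : ℤ) • rv β + rv b →
      (∀ s t : k, Z β s * Z b t = Z a (ε * s * t) * Z a' (s ^ 2 * t) * Z b t * Z β s) → Tri k β b
  | t3 (a a' : PR m) (ε : k) : ε * ε = 1 → ¬ Sh β → Sh b → Sh a → ¬ Sh a' → rv a = rv β + rv b →
      rv a' = rv β + (2 : ℤ) • rv b →
      (∀ s t : k, Z β s * Z b t = Z a (ε * s * t) * Z a' (-s * t ^ 2) * Z b t * Z β s) → Tri k β b

theorem tri_aux {β b : PR m} {x y d : II m} (h1 : Is β x y) (h2 : Is b y.swap d) : Tri k β b := by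
  have l1 := h1.lt
  have l2 := h2.lt
  have l3 := ps_swap y
  have n1 := h1.ne
  have n2 : d ≠ y := fun e => h2.ne (by rw [e])
  have n3 : x ≠ d.swap := by rw [Ne, eq_swap_iff]; omega
  have e1 : -sg k y * -sg k y = 1 := by rw [neg_mul_neg, sg_sq]
  by_cases c1 : x = y
  · subst c1
    have n4 : d ≠ x.swap := fun e => n3 (eq_swap_comm.1 e)
    obtain ⟨a, ha⟩ := exists_is (x := d) (y := x) (by omega)
    obtain ⟨a', ha'⟩ := exists_is (x := d) (y := d) (by omega)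
    refine Tri.t3 a a' (-sg k x.swap) (by rw [neg_mul_neg, sg_sq]) (by simp [h1.sh]) (h2.sh.2 n4.symm) (ha.sh.2 n2)
      (by simp [ha'.sh]) ?_ ?_ fun s t => ?_
    · rw [ha.rv, h1.rv, h2.rv, wv_swap]; abel
    · rw [ha'.rv, h1.rv, h2.rv, wv_swap, two_smul]; abel
    · have h := R3 (a := d) (b := x.swap) n4 (by rwa [swap_swap]) t s
      rw [swap_swap] at h
      rw [h1.Z, h2.symm.Z, ha.Z, ha'.Z, h]
  by_cases c2 : d = y.swap
  · subst c2
    obtain ⟨a, ha⟩ := exists_is (x := x) (y := y.swap) (by omega)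
    obtain ⟨a', ha'⟩ := exists_is (x := x) (y := x) (by omega)
    refine Tri.t2 a a' (sg k y) (sg_sq y) (h1.sh.2 c1) (by simp [h2.sh]) (ha.sh.2 n1) (by simp [ha'.sh]) ?_ ?_
      fun s t => ?_
    · rw [ha.rv, h1.rv, h2.rv, wv_swap]; abel
    · rw [ha'.rv, h1.rv, h2.rv, wv_swap, two_smul]; abel
    · rw [h1.Z, h2.Z, ha.Z, ha'.Z, R2 c1 n1]
  by_cases c3 : x = d
  · subst c3
    obtain ⟨a, ha⟩ := exists_is (x := x) (y := x) (by omega)
    refine Tri.t1' a (sg k y) (sg_sq y) (h1.sh.2 c1) (h2.sh.2 (Ne.symm c2)) (by simp [ha.sh]) ?_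
      ⟨y.swap, y.swap, (swap_ne _).symm, ?_⟩ ⟨y.swap, ?_⟩ fun s t => ?_
    · rw [ha.rv, h1.rv, h2.rv, wv_swap]; abel
    · rw [h1.rv, h2.rv, wv_swap]; abel
    · rw [h1.rv, h2.rv, xv_sub, xv_smul, xv_add, xv_add, xv_wv_self, xv_wv_ne (Ne.symm c2) (by rwa [Ne, swap_inj, eq_comm]),
        xv_swap, xv_wv_self]
      ring
    · rw [h1.Z, h2.Z, ha.Z, R1' c1 n1]
  · obtain ⟨a, ha⟩ := exists_is (x := x) (y := d) (by omega)
    refine Tri.t1 a (-sg k y) e1 (h1.sh.2 c1) (h2.sh.2 (Ne.symm c2)) (ha.sh.2 c3) ?_ fun s t => ?_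
    · rw [ha.rv, h1.rv, h2.rv, wv_swap]; abel
    · rw [h1.Z, h2.Z, ha.Z, R1 c1 n1 n2 c2 c3 n3]

theorem tri (β b : PR m) : Tri k β b := by
  by_cases h1 : β.1.1 = b.1.1.swap
  · exact tri_aux (Is.self β).symm (by rw [h1, swap_swap]; exact Is.self b)
  by_cases h2 : β.1.1 = b.1.2.swap
  · exact tri_aux (Is.self β).symm (by rw [h2, swap_swap]; exact (Is.self b).symm)
  by_cases h3 : β.1.2 = b.1.1.swap
  · exact tri_aux (Is.self β) (by rw [h3, swap_swap]; exact Is.self b)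
  by_cases h4 : β.1.2 = b.1.2.swap
  · exact tri_aux (Is.self β) (by rw [h4, swap_swap]; exact (Is.self b).symm)
  have p1 := xv_wv_nonneg h1
  have p2 := xv_wv_nonneg h2
  have p3 := xv_wv_nonneg h3
  have p4 := xv_wv_nonneg h4
  have p5 := xv_wv_nonneg (Is.self β).ne
  have p6 := xv_wv_nonneg (Is.self b).ne
  refine Tri.t0 (R0 (Is.self β).ne (Is.self b).ne h1 h2 h3 h4) ?_ fun a e => ?_
  · rw [rv_dot, rv, xv_add, xv_add]; omega
  · have q1 := congrArg (xv · β.1.1) e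
    have q2 := congrArg (xv · β.1.2) e
    have q3 := congrArg (xv · b.1.1) e
    have q4 := congrArg (xv · b.1.2) e
    have q5 := congrArg (xv · a.1.1) e
    have q6 := congrArg (xv · a.1.2) e
    simp only [rv, xv_add, xv_wv_self, xv_wv_comm β.1.2 β.1.1, xv_wv_comm b.1.2 b.1.1, xv_wv_comm b.1.1 β.1.1,
      xv_wv_comm b.1.1 β.1.2, xv_wv_comm b.1.2 β.1.1, xv_wv_comm b.1.2 β.1.2, xv_wv_comm a.1.1 β.1.1,
      xv_wv_comm a.1.1 β.1.2, xv_wv_comm a.1.1 b.1.1, xv_wv_comm a.1.1 b.1.2, xv_wv_comm a.1.2 β.1.1,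
      xv_wv_comm a.1.2 β.1.2, xv_wv_comm a.1.2 b.1.1, xv_wv_comm a.1.2 b.1.2, xv_wv_comm a.1.2 a.1.1] at q1 q2 q3 q4 q5 q6
    have p7 := xv_wv_le a.1.1 a.1.2
    have e2 : a.1.1 = a.1.2 := eq_of_xv_wv (by omega)
    have e3 : xv (wv a.1.2) β.1.1 = xv (wv a.1.1) β.1.1 := by rw [e2]
    omega

end Cfsg.Agent.TwoF.DC.TC
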